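/-
Certificates for the vanishing of eigenvectors in modules of alternating groups without nonzero
vectors fixed by given subgroups.

A vector `v` that is an eigenvector of a subgroup `S` spans, with its translates, a quotient of
the monomial module on the cosets of `S` in a subgroup `K`. If a combination `w` of the
translates is fixed by one of the given subgroups modulo relations already known, it vanishes,
and is a new relation. A certificate lists such relations, ending in `v = 0`.
-/
import Mathlib.GroupTheory.SpecificGroups.Alternating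
import Mathlib.GroupTheory.Solvable
import Mathlib.Algebra.CharP.Basic
import Mathlib.LinearAlgebra.Span.Basic
import Mathlib.Algebra.Module.LinearMap.End
import Mathlib.RepresentationTheory.Basic
import Mathlib.Tactic

set_option autoImplicit false
set_option linter.style.haveILetI false

namespace Cfsg.Agent.AltCent

open scoped commutatorElement

variable {n : ℕ}

/-! ### Elements as words -/

/-- The product of a list of transpositions. -/
def prodSw (l : List (Fin n × Fin n)) : Equiv.Perm (Fin n) :=
  (l.map fun x => Equiv.swap x.1 x.2).prod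

/-- The list consists of an even number of proper transpositions. -/
def okSw (l : List (Fin n × Fin n)) : Bool :=
  l.all (fun x => decide (x.1 ≠ x.2)) && decide (l.length % 2 = 0)

theorem sign_prodSw {l : List (Fin n × Fin n)} (h : okSw l = true) :
    Equiv.Perm.sign (prodSw l) = 1 := by
  simp only [okSw, Bool.and_eq_true, List.all_eq_true, decide_eq_true_eq] at h
  rw [prodSw, Equiv.Perm.sign_prod_list_swap (fun g hg => ?_), List.length_map]
  · exact Even.neg_one_pow (Nat.even_iff.2 h.2)
  · obtain ⟨x, hx, rfl⟩ := List.mem_map.1 hg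
    exact ⟨x.1, x.2, h.1 x hx, rfl⟩

/-- An even product of transpositions as an element of the alternating group. -/
def mkA (l : List (Fin n × Fin n)) : ↥(alternatingGroup (Fin n)) :=
  if h : okSw l = true then ⟨prodSw l, Equiv.Perm.mem_alternatingGroup.2 (sign_prodSw h)⟩ else 1

/-- The packed list of images, four bits each. -/
def codeF : (m : ℕ) → (Fin m → ℕ) → ℕ
  | 0, _ => 0
  | m + 1, f => f 0 + 16 * codeF m (fun i => f i.succ)

/-- The code of an element. -/
def code (σ : ↥(alternatingGroup (Fin n))) : ℕ :=
  codeF n fun i => ((σ : Equiv.Perm (Fin n)) i : ℕ)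

/-- A digit of a code. -/
def digit (c i : ℕ) : ℕ := (c >>> (4 * i)) % 16

theorem digit_succ (c i : ℕ) : digit c (i + 1) = digit (c / 16) i := by
  simp only [digit, Nat.shiftRight_eq_div_pow, Nat.div_div_eq_div_mul]
  congr 2
  rw [mul_add, mul_one, pow_add, mul_comm]
  norm_num

theorem digit_codeF : ∀ {m : ℕ} (f : Fin m → ℕ), (∀ i, f i < 16) → ∀ i : Fin m,
    digit (codeF m f) i = f i
  | 0, _, _, i => i.elim0
  | m + 1, f, hf, i => by
    rw [codeF]
    induction i using Fin.cases with
    | zero => simp [digit, Nat.add_mul_mod_self_left, Nat.mod_eq_of_lt (hf 0)]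
    | succ j =>
      rw [Fin.val_succ, digit_succ, Nat.add_mul_div_left _ _ (by norm_num : 0 < 16),
        Nat.div_eq_of_lt (hf 0), zero_add]
      exact digit_codeF _ (fun i => hf i.succ) j

/-- Composition of codes, the digits from `i` on. -/
def compFrom (a b : ℕ) : ℕ → ℕ → ℕ
  | 0, _ => 0
  | m + 1, i => digit a (digit b i) + 16 * compFrom a b m (i + 1)

/-- Composition of codes. -/
def compC (n a b : ℕ) : ℕ := compFrom a b n 0

theorem compFrom_eq (a b : ℕ) : ∀ m i, compFrom a b m i =
    codeF m fun j => digit a (digit b (i + j))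
  | 0, _ => rfl
  | m + 1, i => by
    rw [compFrom, codeF, compFrom_eq a b m (i + 1)]
    simp [add_assoc, add_comm 1]

theorem code_mul (hn : n ≤ 16) (σ τ : ↥(alternatingGroup (Fin n))) :
    code (σ * τ) = compC n (code σ) (code τ) := by
  rw [compC, compFrom_eq, code]
  congr 1
  funext i
  have h : ∀ (π : ↥(alternatingGroup (Fin n))) (j : Fin n),
      digit (code π) (j : ℕ) = ((π : Equiv.Perm (Fin n)) j : ℕ) := fun π j =>
    digit_codeF _ (fun j => lt_of_lt_of_le (Fin.is_lt _) hn) j
  rw [zero_add, h, h]
  simp

theorem code_injective (hn : n ≤ 16) : Function.Injective (code (n := n)) := by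
  intro σ τ h
  refine Subtype.ext (Equiv.ext fun i => Fin.ext ?_)
  have e := fun π : ↥(alternatingGroup (Fin n)) =>
    digit_codeF (fun j => (((π : Equiv.Perm (Fin n)) j : Fin n) : ℕ))
      (fun j => lt_of_lt_of_le (Fin.is_lt _) hn) i
  exact (e σ).symm.trans (Eq.trans (by rw [code, code] at h; rw [h]) (e τ))

/-- The code of the identity. -/
def idC (n : ℕ) : ℕ := codeF n fun i => (i : ℕ)

theorem code_one : code (1 : ↥(alternatingGroup (Fin n))) = idC n := rfl

/-- The generator with the given index. -/
def genA (gd : List (List (Fin n × Fin n))) (i : ℕ) : ↥(alternatingGroup (Fin n)) :=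
  mkA (gd.getD i [])

/-- The element of a word in the generators. -/
def elemW (gd : List (List (Fin n × Fin n))) (w : List ℕ) : ↥(alternatingGroup (Fin n)) :=
  (w.map (genA gd)).prod

theorem elemW_cons (gd : List (List (Fin n × Fin n))) (i : ℕ) (w : List ℕ) :
    elemW gd (i :: w) = genA gd i * elemW gd w := rfl

theorem elemW_append (gd : List (List (Fin n × Fin n))) (u w : List ℕ) :
    elemW gd (u ++ w) = elemW gd u * elemW gd w := by
  simp [elemW]

/-- The code of a word, computed from the table of the generators. -/
def evalW (n : ℕ) (tbl : List ℕ) : List ℕ → ℕ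
  | [] => idC n
  | i :: w => compC n (tbl.getD i (idC n)) (evalW n tbl w)

theorem tbl_getD {gd : List (List (Fin n × Fin n))} {tbl : List ℕ}
    (htbl : gd.map (fun l => code (mkA l)) = tbl) (i : ℕ) :
    tbl.getD i (idC n) = code (genA gd i) := by
  subst htbl
  simp only [List.getD_eq_getElem?_getD, List.getElem?_map, genA]
  rcases gd[i]? with _ | l
  · simp [mkA, okSw, prodSw, ← code_one (n := n)]
    rfl
  · simp

theorem evalW_eq (hn : n ≤ 16) {gd : List (List (Fin n × Fin n))} {tbl : List ℕ}
    (htbl : gd.map (fun l => code (mkA l)) = tbl) :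
    ∀ w, evalW n tbl w = code (elemW gd w)
  | [] => code_one.symm
  | i :: w => by
    rw [elemW_cons, code_mul hn, ← evalW_eq hn htbl w, evalW, tbl_getD htbl]

theorem elemW_eq_of_evalW (hn : n ≤ 16) {gd : List (List (Fin n × Fin n))} {tbl : List ℕ}
    (htbl : gd.map (fun l => code (mkA l)) = tbl) {u w : List ℕ}
    (h : evalW n tbl u = evalW n tbl w) : elemW gd u = elemW gd w :=
  code_injective hn (by rw [← evalW_eq hn htbl, h, evalW_eq hn htbl])

/-- Two generators, each a commutator in the group they generate, one of them nontrivial. -/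
def checkPerfect (n : ℕ) (tbl : List ℕ) (hs : List (List ℕ))
    (cs : List (List ℕ × List ℕ)) : Bool :=
  decide (hs.length = cs.length) &&
  (List.zip hs cs).all (fun x =>
    decide (evalW n tbl (x.1 ++ x.2.2.flatMap (fun i => hs.getD i []) ++
        x.2.1.flatMap (fun i => hs.getD i [])) =
      evalW n tbl (x.2.1.flatMap (fun i => hs.getD i []) ++
        x.2.2.flatMap (fun i => hs.getD i [])))) &&
  hs.any (fun h => decide (evalW n tbl h ≠ idC n))

theorem not_isSolvable_of_checkPerfect (hn : n ≤ 16) {gd : List (List (Fin n × Fin n))}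
    {tbl : List ℕ} (htbl : gd.map (fun l => code (mkA l)) = tbl) {hs : List (List ℕ)}
    {cs : List (List ℕ × List ℕ)} (h : checkPerfect n tbl hs cs = true) :
    ¬ Group.IsSolvable ↥(Subgroup.closure {x | ∃ h ∈ hs, elemW gd h = x}) := by
  simp only [checkPerfect, Bool.and_eq_true, List.all_eq_true, List.any_eq_true,
    decide_eq_true_eq] at h
  obtain ⟨⟨hlen, hall⟩, w0, hw0, hne⟩ := h
  set H := Subgroup.closure {x | ∃ h ∈ hs, elemW gd h = x} with hH
  have hmem : ∀ u : List ℕ, elemW gd (u.flatMap fun i => hs.getD i []) ∈ H := by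
    intro u
    induction u with
    | nil => exact H.one_mem
    | cons i u ih =>
      rw [List.flatMap_cons, elemW_append]
      refine H.mul_mem ?_ ih
      rw [List.getD_eq_getElem?_getD]
      cases hi : hs[i]? with
      | none => exact H.one_mem
      | some w => exact Subgroup.subset_closure ⟨w, List.mem_of_getElem? hi, rfl⟩
  intro hsol
  have hle : H ≤ ⁅H, H⁆ := by
    rw [hH, Subgroup.closure_le]
    rintro x ⟨w, hw, rfl⟩
    obtain ⟨j, hj, rfl⟩ := List.getElem_of_mem hw
    have hx := hall (hs[j], cs[j]'(hlen ▸ hj)) (List.mem_iff_getElem.2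
      ⟨j, by simp [List.length_zip, ← hlen, hj], by simp⟩)
    have e := elemW_eq_of_evalW hn htbl hx
    simp only [elemW_append] at e
    set a := elemW gd ((cs[j]'(hlen ▸ hj)).1.flatMap fun i => hs.getD i []) with ha
    set b := elemW gd ((cs[j]'(hlen ▸ hj)).2.flatMap fun i => hs.getD i []) with hb
    have : elemW gd hs[j] = ⁅a, b⁆ := by
      rw [commutatorElement_def, eq_mul_inv_iff_mul_eq, eq_mul_inv_iff_mul_eq]
      exact e
    rw [SetLike.mem_coe, this]
    exact Subgroup.commutator_mem_commutator (hmem _) (hmem _)
  obtain ⟨k, hk⟩ := (Group.isSolvable_def _).1 hsol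
  have hd : ∀ k, derivedSeries ↥H k = ⊤ := by
    intro k
    induction k with
    | zero => rfl
    | succ k ih =>
      rw [derivedSeries_succ, ih, eq_top_iff]
      intro x _
      have hx : (x : ↥(alternatingGroup (Fin n))) ∈ ⁅H, H⁆ := hle x.2
      have hmap : Subgroup.map H.subtype ⁅(⊤ : Subgroup ↥H), (⊤ : Subgroup ↥H)⁆ = ⁅H, H⁆ := by
        rw [Subgroup.map_commutator, ← MonoidHom.range_eq_map, H.range_subtype]
      rw [← hmap] at hx
      obtain ⟨y, hy, hyx⟩ := hx
      exact Subtype.ext hyx ▸ hy
  rw [hd] at hk
  refine hne ?_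
  have h1 : elemW gd w0 ∈ H := Subgroup.subset_closure ⟨w0, hw0, rfl⟩
  have h2 : (⟨elemW gd w0, h1⟩ : H) ∈ (⊥ : Subgroup H) := hk ▸ Subgroup.mem_top _
  rw [evalW_eq hn htbl, show elemW gd w0 = 1 from congrArg Subtype.val (Subgroup.mem_bot.1 h2)]
  exact code_one

/-! ### The monomial module -/

/-- The data of a monomial module: eigen-subgroup generators, coset representatives and the
packed action of the generators. -/
structure Mono where
  S : List (List ℕ × Bool)
  reps : List (List ℕ)
  sel : List (List ℕ)
  repC : ℕ
  selC : ℕ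
  act : List ℕ

/-- Sparse vectors on the cosets. -/
abbrev SVec := List (ℕ × ℕ)

/-- The base of the packing. -/
def base : ℕ := 4294967296

namespace Mono

variable (D : Mono)

/-- The sign of a word in the generators of the eigen-subgroup. -/
def neg : List ℕ → Bool
  | [] => false
  | i :: u => xor (D.S.getD i ([], false)).2 (neg u)

/-- The word of a word in the generators of the eigen-subgroup. -/
def flat (u : List ℕ) : List ℕ := u.flatMap fun i => (D.S.getD i ([], false)).1

/-- The image coset and sign. -/
def img (i a : ℕ) : ℕ × Bool :=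
  let x := ((D.act.getD i 0) >>> (32 * a)) % base
  (x % 65536, decide (x / 65536 % 2 = 1))

/-- The index of the witness of an image. -/
def witT (i a : ℕ) : ℕ := ((D.act.getD i 0) >>> (32 * a)) % base / 131072

/-- An entry of a packed list of codes. -/
def getP (c a : ℕ) : ℕ := (c >>> (64 * a)) % 18446744073709551616

/-- The validity of the action table. -/
def checkAct (n : ℕ) (tbl : List ℕ) : Bool :=
  decide (D.reps.head? = some []) &&
  D.reps.zipIdx.all (fun r => decide (getP D.repC r.2 = evalW n tbl r.1)) &&
  D.sel.zipIdx.all (fun r => decide (getP D.selC r.2 =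
    2 * evalW n tbl (D.flat r.1) + (if D.neg r.1 then 1 else 0))) &&
  tbl.zipIdx.all fun g => (List.range D.reps.length).all fun a =>
    decide ((D.img g.2 a).1 < D.reps.length) && decide (D.witT g.2 a < D.sel.length) &&
    decide ((D.img g.2 a).2 = decide (getP D.selC (D.witT g.2 a) % 2 = 1)) &&
    decide (compC n g.1 (getP D.repC a) =
      compC n (getP D.repC (D.img g.2 a).1) (getP D.selC (D.witT g.2 a) / 2))

/-- Negation of a coefficient. -/
def negC (p c : ℕ) : ℕ := (p - c % p) % p

/-- The action of a generator on sparse vectors. -/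
def move (p i : ℕ) (w : SVec) : SVec :=
  w.map fun x => ((D.img i x.1).1, if (D.img i x.1).2 then negC p x.2 else x.2)

/-- The action of a word. -/
def moveW (p : ℕ) (u : List ℕ) (w : SVec) : SVec := u.foldr (D.move p) w

/-- A combination of translates of relations. -/
def combVec (p : ℕ) (R : List SVec) (cs : List (ℕ × List ℕ × ℕ)) : SVec :=
  cs.flatMap fun t => (D.moveW p t.2.1 (R.getD t.2.2 [])).map fun x => (x.1, t.1 * x.2 % p)

/-- The packed coefficients. -/
def pack : SVec → ℕ
  | [] => 0
  | x :: w => x.2 * base ^ x.1 + pack w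

/-- All packed coefficients vanish modulo `p`. -/
def digitsZero (p : ℕ) : ℕ → ℕ → Bool
  | 0, _ => true
  | N + 1, m => decide (m % base % p = 0) && digitsZero p N (m / base)

/-- The zero test. -/
def isZero (p : ℕ) (w : SVec) : Bool :=
  w.all (fun x => decide (x.1 < D.reps.length)) &&
  decide ((w.map Prod.snd).sum < base) &&
  digitsZero p D.reps.length (pack w)

/-- A step of a certificate: a vector, the index of a subgroup and the combinations showing
that the generators of the subgroup fix it. -/
structure Fix where
  w : SVec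
  H : ℕ
  certs : List (List (ℕ × List ℕ × ℕ))

/-- The words of all combinations only use the generators. -/
def wordsOk (m : ℕ) (cs : List (ℕ × List ℕ × ℕ)) : Bool :=
  cs.all fun t => t.2.1.all fun i => decide (i < m)

/-- The check of the steps. -/
def checkFix (p m : ℕ) (Hs : List (List (List ℕ))) : List SVec → List Fix →
    List (ℕ × List ℕ × ℕ) → Bool
  | R, [], fin => wordsOk m fin && D.isZero p ((0, 1) :: D.combVec p R fin)
  | R, f :: fs, fin =>
    f.w.all (fun x => decide (x.1 < D.reps.length)) &&
    decide (f.H < Hs.length) &&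
    decide ((Hs.getD f.H []).length = f.certs.length) &&
    (List.zip (Hs.getD f.H []) f.certs).all (fun y =>
      y.1.all (fun i => decide (i < m)) && wordsOk m y.2 &&
      D.isZero p (D.moveW p y.1 f.w ++ f.w.map (fun x => (x.1, negC p x.2)) ++
        D.combVec p R y.2)) &&
    checkFix p m Hs (R ++ [f.w]) fs fin

end Mono

/-! ### Soundness -/

section Sound

open Mono

variable {k V : Type*} [Field k] [AddCommGroup V] [Module k V]

/-- The vector of a sparse vector. -/
def evalVec (x : ℕ → V) (w : SVec) : V := (w.map fun t => (t.2 : k) • x t.1).sum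

theorem pack_split (w : SVec) :
    ∃ r : SVec, pack w = (w.map fun t => if t.1 = 0 then t.2 else 0).sum + base * pack r ∧
      r = (w.filter fun t => decide (t.1 ≠ 0)).map (fun t => (t.1 - 1, t.2)) := by
  induction w with
  | nil => exact ⟨[], by simp [pack], rfl⟩
  | cons t w ih =>
    obtain ⟨r, h, hr⟩ := ih
    obtain ⟨a, c⟩ := t
    rcases Nat.eq_zero_or_pos a with rfl | ha
    · exact ⟨r, by simp [pack, h]; ring, by simp [hr]⟩
    · refine ⟨(a - 1, c) :: r, ?_, by simp [hr, ha.ne']⟩
      have e : base ^ a = base * base ^ (a - 1) := by rw [← pow_succ', Nat.sub_add_cancel ha]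
      simp only [pack, List.map_cons, List.sum_cons, if_neg ha.ne', h, e]
      ring

theorem evalVec_eq_zero_of_digits (p : ℕ) [CharP k p] :
    ∀ (N : ℕ) (x : ℕ → V) (w : SVec), (∀ t ∈ w, t.1 < N) → (w.map Prod.snd).sum < base →
      digitsZero p N (pack w) = true → evalVec (k := k) x w = 0 := by
  intro N
  induction N with
  | zero =>
    intro x w hw _ _
    rcases w with _ | ⟨t, w⟩
    · simp [evalVec]
    · exact absurd (hw t (by simp)) (Nat.not_lt_zero _)
  | succ N ih =>
    intro x w hw hs hd
    obtain ⟨r, hp, hr⟩ := pack_split w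
    set c0 := (w.map fun t => if t.1 = 0 then t.2 else 0).sum with hc0
    have hc0le : c0 ≤ (w.map Prod.snd).sum :=
      List.sum_le_sum fun t _ => by split_ifs <;> simp
    simp only [digitsZero, Bool.and_eq_true, decide_eq_true_eq] at hd
    have hlt : c0 < base := lt_of_le_of_lt hc0le hs
    rw [hp, Nat.add_mul_mod_self_left, Nat.mod_eq_of_lt hlt,
      Nat.add_mul_div_left _ _ (by simp [base] : 0 < base),
      Nat.div_eq_of_lt hlt, zero_add] at hd
    have hrs : (r.map Prod.snd).sum ≤ (w.map Prod.snd).sum := by
      rw [hr, List.map_map]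
      exact List.Sublist.sum_le_sum ((List.filter_sublist.map _)) (by simp)
    have h0 : evalVec (k := k) (fun a => x (a + 1)) r = 0 := by
      refine ih _ r (fun t ht => ?_) (by omega) hd.2
      rw [hr] at ht
      obtain ⟨s, hs', rfl⟩ := List.mem_map.1 ht
      simp only [List.mem_filter, decide_eq_true_eq] at hs'
      have := hw s hs'.1
      show s.1 - 1 < N
      omega
    have hkey : ∀ u : SVec, evalVec (k := k) x u =
        (((u.map fun t => if t.1 = 0 then t.2 else 0).sum : ℕ) : k) • x 0 +
          evalVec (k := k) (fun a => x (a + 1))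
            ((u.filter fun t => decide (t.1 ≠ 0)).map fun t => (t.1 - 1, t.2)) := by
      intro u
      induction u with
      | nil => simp [evalVec]
      | cons t u ihu =>
        obtain ⟨a, c⟩ := t
        have e : evalVec (k := k) x ((a, c) :: u) = (c : k) • x a + evalVec (k := k) x u := by
          simp [evalVec]
        rw [e, ihu]
        rcases Nat.eq_zero_or_pos a with rfl | ha
        · simp [add_smul]
          abel
        · have : a - 1 + 1 = a := Nat.sub_add_cancel ha
          simp [evalVec, ha.ne', this]
          abel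
    rw [hkey, ← hr, h0, ← hc0, add_zero,
      show ((c0 : ℕ) : k) = 0 from (CharP.cast_eq_zero_iff k p _).2 (Nat.dvd_of_mod_eq_zero hd.1),
      zero_smul]

variable (ρ : Representation k ↥(alternatingGroup (Fin n)) V)

/-- A checked certificate kills every eigenvector of the subgroup. -/
theorem eq_zero_of_check {p : ℕ} [CharP k p] (hp : 0 < p) (hn : n ≤ 16)
    {gd : List (List (Fin n × Fin n))}
    {tbl : List ℕ} (htbl : gd.map (fun l => code (mkA l)) = tbl) (D : Mono)
    (Hs : List (List (List ℕ))) (fs : List Fix) (fin : List (ℕ × List ℕ × ℕ))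
    (hact : D.checkAct n tbl = true) (hfix : D.checkFix p tbl.length Hs [] fs fin = true)
    (hH : ∀ hs ∈ Hs, ∀ u : V, (∀ h ∈ hs, ρ (elemW gd h) u = u) → u = 0)
    {v : V} (hv : ∀ s ∈ D.S, ρ (elemW gd s.1) v = if s.2 then -v else v) : v = 0 := by
  simp only [checkAct, Bool.and_eq_true, List.all_eq_true, decide_eq_true_eq] at hact
  obtain ⟨⟨⟨hhead, hrep⟩, hsel⟩, hrow⟩ := hact
  set x : ℕ → V := fun a => ρ (elemW gd (D.reps.getD a [])) v with hx
  have hflat : ∀ u : List ℕ, ρ (elemW gd (D.flat u)) v = if D.neg u then -v else v := by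
    intro u
    induction u with
    | nil => simp [Mono.flat, Mono.neg, elemW]
    | cons i u ih =>
      rw [show D.flat (i :: u) = (D.S.getD i ([], false)).1 ++ D.flat u from rfl, elemW_append,
        map_mul, Module.End.mul_apply, ih]
      have hi : ρ (elemW gd (D.S.getD i ([], false)).1) v =
          if (D.S.getD i ([], false)).2 then -v else v := by
        rw [List.getD_eq_getElem?_getD]
        cases hs : D.S[i]? with
        | none => simp [elemW]
        | some s => simpa using hv s (List.mem_of_getElem? hs)
      simp only [Mono.neg]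
      rcases Bool.eq_false_or_eq_true (D.neg u) with h1 | h1 <;>
        rcases Bool.eq_false_or_eq_true (D.S.getD i ([], false)).2 with h2 | h2 <;>
        simp only [h1, h2] at hi ⊢ <;> simp at hi ⊢ <;> simp [hi]
  have hcastneg : ∀ c : ℕ, ((negC p c : ℕ) : k) = -(c : k) := by
    intro c
    rw [eq_neg_iff_add_eq_zero, ← Nat.cast_add, CharP.cast_eq_zero_iff k p]
    refine Nat.dvd_of_mod_eq_zero ?_
    rw [negC, Nat.mod_add_mod, ← Nat.add_mod_mod, Nat.sub_add_cancel (Nat.mod_lt _ hp).le,
      Nat.mod_self]
  have hstep : ∀ i a : ℕ, i < tbl.length → a < D.reps.length →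
      (D.img i a).1 < D.reps.length ∧
      ρ (genA gd i) (x a) = (if (D.img i a).2 then -1 else (1 : k)) • x (D.img i a).1 := by
    intro i a hi ha
    obtain ⟨⟨⟨h1, ht⟩, h2⟩, h3⟩ := hrow (tbl[i], i)
      (List.mem_iff_getElem.2 ⟨i, by simp [hi], by simp⟩) a (List.mem_range.2 ha)
    refine ⟨h1, ?_⟩
    set b := (D.img i a).1 with hb
    set t := D.witT i a with ht'
    have er : ∀ c, c < D.reps.length → getP D.repC c = code (elemW gd (D.reps.getD c [])) := by
      intro c hc
      have := hrep (D.reps[c], c) (List.mem_iff_getElem.2 ⟨c, by simp [hc], by simp⟩)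
      rw [this, evalW_eq hn htbl, List.getD_eq_getElem?_getD, List.getElem?_eq_getElem hc,
        Option.getD_some]
    have es := hsel (D.sel[t], t) (List.mem_iff_getElem.2 ⟨t, by simp [ht], by simp⟩)
    simp only at es
    rw [evalW_eq hn htbl] at es
    have hs2 : getP D.selC t / 2 = code (elemW gd (D.flat D.sel[t])) := by
      rw [es]; split_ifs <;> omega
    have hs1 : decide (getP D.selC t % 2 = 1) = D.neg D.sel[t] := by
      rw [es]; cases D.neg D.sel[t] <;> simp
    rw [er a ha, er b h1, hs2, ← code_mul hn] at h3
    rw [hs1] at h2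
    have hg : tbl[i] = code (genA gd i) := by
      rw [← tbl_getD htbl i, List.getD_eq_getElem?_getD, List.getElem?_eq_getElem hi,
        Option.getD_some]
    rw [hg, ← code_mul hn] at h3
    have e := code_injective hn h3
    simp only [hx, ← Module.End.mul_apply, ← map_mul]
    rw [e, map_mul, Module.End.mul_apply, hflat, ← h2]
    cases (D.img i a).2 <;> simp [hb]

  have heval_cons : ∀ (a c : ℕ) (w : SVec), evalVec (k := k) x ((a, c) :: w) =
      (c : k) • x a + evalVec (k := k) x w := fun a c w => by simp [evalVec]
  have heval_app : ∀ u w : SVec, evalVec (k := k) x (u ++ w) =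
      evalVec (k := k) x u + evalVec (k := k) x w := fun u w => by simp [evalVec]
  have hmove : ∀ i, i < tbl.length → ∀ w : SVec, (∀ t ∈ w, t.1 < D.reps.length) →
      (∀ t ∈ D.move p i w, t.1 < D.reps.length) ∧
        evalVec (k := k) x (D.move p i w) = ρ (genA gd i) (evalVec (k := k) x w) := by
    intro i hi w hw
    induction w with
    | nil => simp [Mono.move, evalVec]
    | cons t w ih =>
      obtain ⟨a, c⟩ := t
      obtain ⟨hb, he⟩ := hstep i a hi (hw (a, c) (by simp))
      obtain ⟨ih1, ih2⟩ := ih fun t ht => hw t (by simp [ht])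
      rw [show D.move p i ((a, c) :: w) = ((D.img i a).1,
        if (D.img i a).2 then negC p c else c) :: D.move p i w from rfl]
      refine ⟨fun t ht => ?_, ?_⟩
      · rcases List.mem_cons.1 ht with rfl | ht
        · exact hb
        · exact ih1 t ht
      · rw [heval_cons, heval_cons, ih2, map_add, map_smul, he]
        cases (D.img i a).2 <;> simp [hcastneg]
  have hmoveW : ∀ u : List ℕ, (∀ i ∈ u, i < tbl.length) → ∀ w : SVec,
      (∀ t ∈ w, t.1 < D.reps.length) →
      (∀ t ∈ D.moveW p u w, t.1 < D.reps.length) ∧
        evalVec (k := k) x (D.moveW p u w) = ρ (elemW gd u) (evalVec (k := k) x w) := by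
    intro u
    induction u with
    | nil => intro _ w hw; simpa [Mono.moveW, elemW] using hw
    | cons i u ih =>
      intro hu w hw
      obtain ⟨h1, h2⟩ := ih (fun j hj => hu j (by simp [hj])) w hw
      obtain ⟨h3, h4⟩ := hmove i (hu i (by simp)) _ h1
      rw [show D.moveW p (i :: u) w = D.move p i (D.moveW p u w) from rfl]
      refine ⟨h3, ?_⟩
      rw [h4, h2, elemW_cons, map_mul, Module.End.mul_apply]
  have hcomb : ∀ (R : List SVec), (∀ r ∈ R, (∀ t ∈ r, t.1 < D.reps.length) ∧
      evalVec (k := k) x r = 0) → ∀ cs, wordsOk tbl.length cs = true →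
      evalVec (k := k) x (D.combVec p R cs) = 0 := by
    intro R hR cs hcs
    simp only [wordsOk, List.all_eq_true, decide_eq_true_eq] at hcs
    induction cs with
    | nil => simp [combVec, evalVec]
    | cons t cs ih =>
      rw [combVec, List.flatMap_cons, heval_app]
      rw [combVec] at ih
      rw [ih fun t ht => hcs t (by simp [ht]), add_zero]
      have hsc : ∀ (c : ℕ) (w : SVec), evalVec (k := k) x (w.map fun y => (y.1, c * y.2 % p)) =
          (c : k) • evalVec (k := k) x w := by
        intro c w
        induction w with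
        | nil => simp [evalVec]
        | cons y w ih =>
          rw [List.map_cons, heval_cons, ih, heval_cons, smul_add, smul_smul,
            show ((c * y.2 % p : ℕ) : k) = (c : k) * (y.2 : k) by
              rw [← Nat.cast_mul, CharP.natCast_eq_natCast k p]; exact Nat.mod_modEq _ _]
      rw [hsc]
      have hj : (∀ s ∈ R.getD t.2.2 [], s.1 < D.reps.length) ∧
          evalVec (k := k) x (R.getD t.2.2 []) = 0 := by
        rw [List.getD_eq_getElem?_getD]
        cases hs : R[t.2.2]? with
        | none => simp [evalVec]
        | some r => simpa using hR r (List.mem_of_getElem? hs)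
      rw [(hmoveW _ (fun i hi => hcs t (by simp) i hi) _ hj.1).2, hj.2, map_zero, smul_zero]
  have hzero : ∀ w : SVec, D.isZero p w = true → evalVec (k := k) x w = 0 := by
    intro w hw
    simp only [isZero, Bool.and_eq_true, List.all_eq_true, decide_eq_true_eq] at hw
    exact evalVec_eq_zero_of_digits p _ _ w hw.1.1 hw.1.2 hw.2
  suffices key : ∀ (fs : List Fix) (R : List SVec), (∀ r ∈ R, (∀ t ∈ r, t.1 < D.reps.length) ∧
      evalVec (k := k) x r = 0) → D.checkFix p tbl.length Hs R fs fin = true → x 0 = 0 by
    have h0 := key fs [] (by simp) hfix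
    have : D.reps.getD 0 [] = [] := by
      rcases hD : D.reps with _ | ⟨r, rs⟩
      · rfl
      · simpa [hD] using hhead
    simp only [hx] at h0
    rw [this] at h0
    simpa [elemW] using h0
  intro fs
  induction fs with
  | nil =>
    intro R hR h
    simp only [checkFix, Bool.and_eq_true] at h
    have := hzero _ h.2
    rwa [heval_cons, hcomb R hR _ h.1, add_zero, Nat.cast_one, one_smul] at this
  | cons f fs ih =>
    intro R hR h
    simp only [checkFix, Bool.and_eq_true, List.all_eq_true, decide_eq_true_eq] at h
    obtain ⟨⟨⟨⟨hw, hH'⟩, hcl⟩, hz⟩, hrest⟩ := h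
    have hw0 : evalVec (k := k) x f.w = 0 := by
      refine hH _ (List.mem_of_getElem?
        (show Hs[f.H]? = some (Hs.getD f.H []) by
          rw [List.getD_eq_getElem?_getD, List.getElem?_eq_getElem hH', Option.getD_some])) _ ?_
      intro hh hhh
      obtain ⟨j, hj, rfl⟩ := List.getElem_of_mem hhh
      have hj' : j < f.certs.length := hcl ▸ hj
      obtain ⟨⟨hu, hwok⟩, hz'⟩ := hz ((Hs.getD f.H [])[j], f.certs[j]) (List.mem_iff_getElem.2
        ⟨j, by rw [List.length_zip]; exact lt_min hj hj', by simp⟩)
      have h2 := hzero _ hz'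
      rw [heval_app, heval_app, hcomb R hR _ hwok, add_zero,
        (hmoveW _ hu f.w hw).2] at h2
      have hn : ∀ w : SVec, evalVec (k := k) x (w.map fun t => (t.1, negC p t.2)) =
          -evalVec (k := k) x w := by
        intro w
        induction w with
        | nil => simp [evalVec]
        | cons t w ih =>
          rw [List.map_cons, heval_cons, ih, heval_cons, hcastneg, neg_smul]
          abel
      rw [hn, ← sub_eq_add_neg] at h2
      exact sub_eq_zero.1 h2
    refine ih _ ?_ hrest
    intro r hr
    rcases List.mem_append.1 hr with hr | hr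
    · exact hR r hr
    · rw [List.mem_singleton.1 hr]
      exact ⟨hw, hw0⟩

end Sound

end Cfsg.Agent.AltCent
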