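/-
Modules of alternating groups without nonzero vectors fixed by nonsolvable subgroups.
-/
import Cfsg.Agent.Lib.AltCentraliser.Cert

set_option autoImplicit false

namespace Cfsg.Agent.AltCent

variable {n : ℕ} {k V : Type*} [Field k] [AddCommGroup V] [Module k V]

/-- No nonzero vector is fixed by a nonsolvable subgroup. -/
def NoFix (ρ : Representation k ↥(alternatingGroup (Fin n)) V) : Prop :=
  ∀ H : Subgroup ↥(alternatingGroup (Fin n)), ¬ Group.IsSolvable ↥H →
    ∀ u : V, (∀ h ∈ H, ρ h u = u) → u = 0

theorem fixed_closure (ρ : Representation k ↥(alternatingGroup (Fin n)) V)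
    {s : Set ↥(alternatingGroup (Fin n))} {u : V} (hu : ∀ h ∈ s, ρ h u = u) :
    ∀ h ∈ Subgroup.closure s, ρ h u = u := by
  intro h hh
  induction hh using Subgroup.closure_induction with
  | mem x hx => exact hu x hx
  | one => simp
  | mul x y _ _ hx hy => rw [map_mul, Module.End.mul_apply, hy, hx]
  | inv x _ hx =>
    have := congrArg (ρ x⁻¹) hx
    rw [← Module.End.mul_apply, ← map_mul, inv_mul_cancel, map_one, Module.End.one_apply] at this
    exact this.symm

theorem fix_of_noFix {ρ : Representation k ↥(alternatingGroup (Fin n)) V} (hρ : NoFix ρ)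
    (hn : n ≤ 16) {gd : List (List (Fin n × Fin n))} {tbl : List ℕ}
    (htbl : gd.map (fun l => code (mkA l)) = tbl) {hs : List (List ℕ)}
    {cs : List (List ℕ × List ℕ)} (h : checkPerfect n tbl hs cs = true) (u : V)
    (hu : ∀ w ∈ hs, ρ (elemW gd w) u = u) : u = 0 :=
  hρ _ (not_isSolvable_of_checkPerfect hn htbl h) u
    (fixed_closure ρ fun x ⟨w, hw, e⟩ => e ▸ hu w hw)

theorem elemW_take (gd : List (List (Fin n × Fin n))) (m : ℕ) (w : List ℕ)
    (hw : w.all (fun i => decide (i < m)) = true) : elemW (gd.take m) w = elemW gd w := by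
  simp only [List.all_eq_true, decide_eq_true_eq] at hw
  unfold elemW
  congr 1
  refine List.map_congr_left fun i hi => ?_
  simp [genA, List.getD_eq_getElem?_getD, hw i hi]

end Cfsg.Agent.AltCent
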