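/-
Extension of scalars keeps the absence of fixed vectors.
-/
import Cfsg.Agent.Lib.AltCentraliser.Basic
import Mathlib.LinearAlgebra.Matrix.ToLin
import Mathlib.LinearAlgebra.Dual.Lemmas
import Mathlib.Algebra.Algebra.ZMod
import Mathlib.LinearAlgebra.FreeModule.Finite.Matrix

set_option autoImplicit false
set_option linter.style.haveILetI false

namespace Cfsg.Agent.AltCent

theorem exists_extend {n p : ℕ} [Fact p.Prime] {V : Type*} [AddCommGroup V] [Module (ZMod p) V]
    [FiniteDimensional (ZMod p) V] {ρ : Representation (ZMod p) ↥(alternatingGroup (Fin n)) V}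
    (hρ : NoFix ρ) (K : Type*) [Field K] [CharP K p] :
    ∃ ρ' : Representation K ↥(alternatingGroup (Fin n))
        (Fin (Module.finrank (ZMod p) V) → K), NoFix ρ' := by
  classical
  letI : Algebra (ZMod p) K := ZMod.algebra K p
  set b := Module.finBasis (ZMod p) V
  let m : ↥(alternatingGroup (Fin n)) →*
      Matrix (Fin (Module.finrank (ZMod p) V)) (Fin (Module.finrank (ZMod p) V)) (ZMod p) :=
    ((LinearMap.toMatrixAlgEquiv b).toMulEquiv.toMonoidHom).comp ρ
  let m' := ((algebraMap (ZMod p) K).mapMatrix.toMonoidHom).comp m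
  refine ⟨(Matrix.toLinAlgEquiv' (R := K)).toMulEquiv.toMonoidHom.comp m', ?_⟩
  intro H hH u hu
  funext i
  refine (Module.forall_dual_apply_eq_zero_iff (ZMod p) (u i)).1 fun φ => ?_
  set w : Fin (Module.finrank (ZMod p) V) → ZMod p := fun i => φ (u i) with hw
  have hfix : ∀ h ∈ H, ρ h (b.equivFun.symm w) = b.equivFun.symm w := by
    intro h hh
    have e := hu h hh
    have e2 : (m h).mulVec w = w := by
      funext j
      have ej := congrArg φ (congrFun e j)
      change φ (((m h).map (algebraMap (ZMod p) K)).mulVec u j) = φ (u j) at ej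
      rw [Matrix.mulVec, dotProduct, map_sum] at ej
      rw [Matrix.mulVec, dotProduct, hw]
      refine Eq.trans (Finset.sum_congr rfl fun l _ => ?_) ej
      rw [Matrix.map_apply, ← Algebra.smul_def, map_smul, smul_eq_mul]
    apply b.equivFun.injective
    rw [LinearEquiv.apply_symm_apply]
    refine Eq.trans ?_ e2
    have := LinearMap.toMatrix_mulVec_repr b b (ρ h) (b.equivFun.symm w)
    rw [show (b.repr (b.equivFun.symm w) : Fin _ → ZMod p) = w from
      b.equivFun.apply_symm_apply w] at this
    exact this.symm
  have h0 := hρ H hH _ hfix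
  have hw0 : w = 0 := by
    have := congrArg b.equivFun h0
    rwa [LinearEquiv.apply_symm_apply, map_zero] at this
  exact congrFun hw0 i

end Cfsg.Agent.AltCent
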