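/-
The sum of a Brauer character against a sign character of a subgroup of order prime to `p`
vanishes when the subgroup has no eigenvector for the sign character.
-/
import Cfsg.Agent.Lib.BrauerChar.Virtual

set_option autoImplicit false
set_option linter.style.haveILetI false
set_option linter.unusedSectionVars false

namespace Cfsg.Agent.AltCent

open Cfsg MonoidAlgebra Cfsg.Agent.Blocks Cfsg.Agent.BrauerPairs Cfsg.Agent.BrauerChar
open scoped ComplexConjugate

universe u v

variable {G : Type u} [Group G] [Fintype G] {M : Ideal AlgInt} [M.IsPrime] {p : ℕ}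
variable {V : Type v} [AddCommGroup V] [Module (resField M) V] [FiniteDimensional (resField M) V]

theorem sum_sign_br_eq_zero (hM : IsPModular p M)
    (F : MonoidAlgebra (resField M) G →ₐ[resField M] Module.End (resField M) V)
    (S : Subgroup G) [Fintype S] (hcop : ¬ p ∣ Nat.card S) (ε : S →* ℤˣ)
    (hzero : ∀ v : V, (∀ s : S, F (MonoidAlgebra.single (s : G) 1) v =
      (((ε s : ℤ) : resField M)) • v) → v = 0) :
    ∑ s : S, ((ε s : ℤ) : ℂ) * br p F (s : G) = 0 := by
  classical
  haveI := resField_charP hM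
  set k := resField M with hk
  have hS : (Fintype.card S : k) ≠ 0 := fun h =>
    hcop (Nat.card_eq_fintype_card (α := S) ▸ (CharP.cast_eq_zero_iff k p _).1 h)
  have hεsq : ∀ s : S, ((ε s : ℤ) : k) * ((ε s : ℤ) : k) = 1 := fun s => by
    rw [← Int.cast_mul, ← Units.val_mul, Int.units_mul_self, Units.val_one, Int.cast_one]
  -- the idempotent
  set σ : MonoidAlgebra k S := ∑ s : S, MonoidAlgebra.single s ((ε s : ℤ) : k) with hσ
  set e : MonoidAlgebra k S := ((Fintype.card S : k))⁻¹ • σ with he
  have hts : ∀ t : S, MonoidAlgebra.single t 1 * σ = ((ε t : ℤ) : k) • σ := by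
    intro t
    rw [hσ, Finset.mul_sum, Finset.smul_sum]
    refine Fintype.sum_equiv (Equiv.mulLeft t) _ _ fun s => ?_
    rw [MonoidAlgebra.single_mul_single, one_mul, MonoidAlgebra.smul_single, Equiv.coe_mulLeft,
      smul_eq_mul, map_mul, Units.val_mul, Int.cast_mul, ← mul_assoc, hεsq, one_mul]
  have hσσ : σ * σ = (Fintype.card S : k) • σ := by
    conv_lhs => arg 1; rw [hσ]
    rw [Finset.sum_mul, Finset.sum_congr rfl fun t _ => show
      MonoidAlgebra.single t ((ε t : ℤ) : k) * σ = σ from ?_, Finset.sum_const, Finset.card_univ,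
      ← Nat.cast_smul_eq_nsmul k]
    rw [show MonoidAlgebra.single t ((ε t : ℤ) : k) =
      ((ε t : ℤ) : k) • MonoidAlgebra.single t 1 from by simp [MonoidAlgebra.smul_single],
      smul_mul_assoc, hts, smul_smul, hεsq, one_smul]
  have hee : e * e = e := by
    rw [he, smul_mul_assoc, mul_smul_comm, hσσ, smul_smul ((Fintype.card S : k))⁻¹
      (Fintype.card S : k), inv_mul_cancel₀ hS, one_smul]
  set F' := F.comp (incl S) with hF'
  have hsingle : ∀ s : S, F' (MonoidAlgebra.single s 1) = F (MonoidAlgebra.single (s : G) 1) := by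
    intro s
    rw [hF', AlgHom.comp_apply, incl, MonoidAlgebra.lift_single, one_smul]
    rfl
  have hFe : F' e = 0 := by
    refine LinearMap.ext fun v => hzero _ fun s => ?_
    rw [← hsingle, ← Module.End.mul_apply, ← map_mul, he, mul_smul_comm, hts, smul_comm, map_smul,
      LinearMap.smul_apply]
  -- the linear character
  set φ : S →* ℂˣ := (Units.map (Int.castRingHom ℂ).toMonoidHom).comp ε with hφ
  set lam : IrrCharacter S := ⟨_, Cfsg.Agent.Char.isIrrCharacter_linear φ⟩ with hlam
  have hlamv : ∀ s : S, (lam : S → ℂ) s = ((ε s : ℤ) : ℂ) := fun s => rfl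
  have hreg : ∀ u : S, ¬ p ∣ orderOf u := fun u hu =>
    hcop (hu.trans (orderOf_dvd_natCard u))
  obtain ⟨B, hB, hlB⟩ : ∃ B, IsPBlock M B ∧ lam ∈ B :=
    ⟨_, isPBlock_blockOf lam, self_mem_blockOf lam⟩
  obtain ⟨Y, T, h0, hirr⟩ := exists_irr_beta hM hcop hB
  obtain ⟨c, hc⟩ := exists_mult Y.pos Y.q Y.surj Y.J Y.N Y.nil Y.ker F'
  have hbr : ∀ u : S, br p F' u = ∑ l, (c l : ℂ) * Y.beta p l u := fun u => by
    simp only [Sys.beta, br, hreg u, not_false_eq_true, if_true, eigMult_ofMat, comp_apply]
    have h := fun j => hc (eigK M u j) (eigK_idem hM (hreg u) j)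
    simp only [eigMult, h, Finset.mul_sum, Nat.cast_sum, Nat.cast_mul, Finset.sum_mul]
    rw [Finset.sum_comm]
    exact Finset.sum_congr rfl fun l _ => Finset.sum_congr rfl fun j _ => by ring
  have hqe : ∀ l, c l ≠ 0 → Y.q e l = 0 := by
    intro l hl
    have h := hc e hee
    rw [hFe, LinearMap.range_zero, finrank_bot, eq_comm, Finset.sum_eq_zero_iff] at h
    have := (Nat.mul_eq_zero.1 (h l (Finset.mem_univ l))).resolve_left hl
    rw [Matrix.rank, Submodule.finrank_eq_zero, LinearMap.range_eq_bot] at this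
    exact Matrix.toLin'.map_eq_zero_iff.1 (by rw [Matrix.toLin'_apply']; exact this)
  suffices key : ∀ l, c l ≠ 0 → ∑ s : S, ((ε s : ℤ) : ℂ) * Y.beta p l s = 0 by
    calc ∑ s : S, ((ε s : ℤ) : ℂ) * br p F (s : G)
        = ∑ s : S, ∑ l, (c l : ℂ) * (((ε s : ℤ) : ℂ) * Y.beta p l s) :=
          Finset.sum_congr rfl fun s _ => by
            rw [← br_restrict F S s, ← hF', hbr, Finset.mul_sum]
            exact Finset.sum_congr rfl fun l _ => by ring
      _ = ∑ l, (c l : ℂ) * ∑ s : S, ((ε s : ℤ) : ℂ) * Y.beta p l s := by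
          rw [Finset.sum_comm]; simp [Finset.mul_sum]
      _ = 0 := Finset.sum_eq_zero fun l _ => by
          rcases eq_or_ne (c l) 0 with h | h
          · simp [h]
          · rw [key l h, mul_zero]
  intro l hl
  by_cases hlT : l ∈ T
  · obtain ⟨χ, hχ⟩ := hirr l hlT
    have hne : (χ : S → ℂ) ≠ (lam : S → ℂ) := by
      intro heq
      -- the trace of the idempotent is one
      have htr : ∀ s : S, (Y.q (MonoidAlgebra.single s 1) l).trace = ((ε s : ℤ) : k) := by
        intro s
        obtain ⟨z, hz, hzt⟩ := res_br hM (comp Y.q l) (hreg s)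
        rw [show br p (ofMat (comp Y.q l)) s = ((ε s : ℤ) : ℂ) from
          (congrFun hχ s).trans ((congrFun heq s).trans (hlamv s))] at hz
        rw [show z = ((ε s : ℤ) : locRing M) from Subtype.ext (by rw [hz]; simp), map_intCast,
          comp_apply] at hzt
        exact hzt.symm
      have h1 : (Y.q e l).trace = 1 := by
        have hlin : Y.q e l = ((Fintype.card S : k))⁻¹ •
            ∑ s : S, ((ε s : ℤ) : k) • Y.q (MonoidAlgebra.single s 1) l := by
          rw [← comp_apply, he, map_smul, hσ, map_sum]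
          congr 1
          exact Finset.sum_congr rfl fun s _ => by
            rw [← comp_apply, ← map_smul, MonoidAlgebra.smul_single, smul_eq_mul, mul_one]
        rw [hlin, Matrix.trace_smul, Matrix.trace_sum, Finset.sum_congr rfl fun s _ => by
          rw [Matrix.trace_smul, htr, smul_eq_mul, hεsq], Finset.sum_const, Finset.card_univ,
          nsmul_one, smul_eq_mul, inv_mul_cancel₀ hS]
      rw [hqe l hl, Matrix.trace_zero] at h1
      exact zero_ne_one h1
    have h := Cfsg.Agent.Char.classInner_irr_of_ne χ.2 lam.2 hne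
    rw [Cfsg.classInner, mul_eq_zero] at h
    rcases h with h | h
    · exact absurd (inv_eq_zero.1 h) (Nat.cast_ne_zero.2 Nat.card_pos.ne')
    · rw [← h]
      refine Finset.sum_congr rfl fun s _ => ?_
      rw [hχ, hlamv, map_intCast, mul_comm]
  · have h := Sys.orth hM Y hB (h0 l hlT) hlB
    rw [← h]
    exact Finset.sum_congr rfl fun s _ => by rw [hlamv, map_intCast, mul_comm]

end Cfsg.Agent.AltCent
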