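/-
Subgroups of alternating groups listed element by element.
-/
import Cfsg.Agent.Lib.AltCentraliser.Basic
import Mathlib.GroupTheory.PGroup

set_option autoImplicit false
set_option linter.style.haveILetI false

namespace Cfsg.Agent.AltCent

variable {n : ℕ}

/-- The subgroup generated by the eigen-subgroup generators. -/
def Mono.group (D : Mono) (gd : List (List (Fin n × Fin n))) :
    Subgroup ↥(alternatingGroup (Fin n)) :=
  Subgroup.closure {x | ∃ s ∈ D.S, elemW gd s.1 = x}

/-- The listed elements with signs. -/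
def Mono.signed (D : Mono) (n : ℕ) (tbl : List ℕ) : List (ℕ × Bool) :=
  D.sel.map fun u => (evalW n tbl (D.flat u), D.neg u)

/-- The list is closed under the generators, with consistent signs, and has no repetition. -/
def Mono.checkGroup (D : Mono) (n : ℕ) (tbl : List ℕ) : Bool :=
  decide ((idC n, false) ∈ D.signed n tbl) &&
  decide ((D.signed n tbl).map Prod.fst).Nodup &&
  D.S.all fun s => (D.signed n tbl).all fun x =>
    decide ((compC n (evalW n tbl s.1) x.1, xor s.2 x.2) ∈ D.signed n tbl)

theorem Mono.mem_group_iff (D : Mono) (hn : n ≤ 16) {gd : List (List (Fin n × Fin n))}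
    {tbl : List ℕ} (htbl : gd.map (fun l => code (mkA l)) = tbl)
    (h : D.checkGroup n tbl = true) (g : ↥(alternatingGroup (Fin n))) :
    g ∈ D.group gd ↔ ∃ u ∈ D.sel, elemW gd (D.flat u) = g := by
  simp only [Mono.checkGroup, Bool.and_eq_true, List.all_eq_true, decide_eq_true_eq] at h
  obtain ⟨⟨h1, -⟩, hcl⟩ := h
  constructor
  · intro hg
    have hg' : g ∈ Submonoid.closure {x | ∃ s ∈ D.S, elemW gd s.1 = x} := by
      rw [← Subgroup.closure_toSubmonoid_of_finite]
      exact hg
    induction hg' using Submonoid.closure_induction_left with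
    | one =>
      obtain ⟨u, hu, he⟩ := List.mem_map.1 h1
      refine ⟨u, hu, code_injective hn ?_⟩
      rw [← evalW_eq hn htbl, code_one]
      exact congrArg Prod.fst he
    | mul_left x hx y hy ih =>
      obtain ⟨s, hs, rfl⟩ := hx
      have hy' : y ∈ D.group gd := by
        have h2 : (elemW gd s.1)⁻¹ * (elemW gd s.1 * y) ∈ D.group gd :=
          mul_mem (inv_mem (Subgroup.subset_closure ⟨s, hs, rfl⟩)) hg
        rwa [inv_mul_cancel_left] at h2
      obtain ⟨u, hu, rfl⟩ := ih hy'
      obtain ⟨u', hu', he⟩ := List.mem_map.1 (hcl s hs _ (List.mem_map_of_mem hu))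
      refine ⟨u', hu', code_injective hn ?_⟩
      rw [code_mul hn, ← evalW_eq hn htbl, ← evalW_eq hn htbl, ← evalW_eq hn htbl]
      exact congrArg Prod.fst he
  · rintro ⟨u, -, rfl⟩
    induction u with
    | nil => exact one_mem _
    | cons i u ih =>
      rw [show D.flat (i :: u) = (D.S.getD i ([], false)).1 ++ D.flat u from rfl, elemW_append]
      refine mul_mem ?_ ih
      rw [List.getD_eq_getElem?_getD]
      cases hs : D.S[i]? with
      | none => exact one_mem _
      | some s => exact Subgroup.subset_closure ⟨s, List.mem_of_getElem? hs, rfl⟩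

/-- All listed elements are `2 ^ m`-torsion. -/
def Mono.checkTwo (D : Mono) (n : ℕ) (tbl : List ℕ) (m : ℕ) : Bool :=
  (D.signed n tbl).all fun x =>
    decide ((fun c => compC n c c)^[m] x.1 = idC n)

theorem Mono.isPGroup_two (D : Mono) (hn : n ≤ 16) {gd : List (List (Fin n × Fin n))}
    {tbl : List ℕ} (htbl : gd.map (fun l => code (mkA l)) = tbl)
    (h : D.checkGroup n tbl = true) {m : ℕ} (h2 : D.checkTwo n tbl m = true) :
    IsPGroup 2 ↥(D.group gd) := by
  intro g
  obtain ⟨u, hu, he⟩ := (D.mem_group_iff hn htbl h g).1 g.2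
  simp only [Mono.checkTwo, List.all_eq_true, decide_eq_true_eq] at h2
  refine ⟨m, Subtype.ext (code_injective hn ?_)⟩
  have key : ∀ j, code (elemW gd (D.flat u) ^ 2 ^ j) =
      (fun c => compC n c c)^[j] (evalW n tbl (D.flat u)) := by
    intro j
    induction j with
    | zero => simp [evalW_eq hn htbl]
    | succ j ih =>
      rw [pow_succ 2 j, pow_mul, pow_two, code_mul hn, Function.iterate_succ_apply', ← ih]
  rw [SubgroupClass.coe_pow, ← he, key, Subgroup.coe_one, code_one]
  exact h2 _ (List.mem_map_of_mem hu)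

open Classical in
theorem Mono.exists_sign (D : Mono) (hn : n ≤ 16) {gd : List (List (Fin n × Fin n))}
    {tbl : List ℕ} (htbl : gd.map (fun l => code (mkA l)) = tbl)
    (h : D.checkGroup n tbl = true) :
    ∃ ε : ↥(D.group gd) →* ℤˣ, ∀ g : ↥(D.group gd), ∀ u ∈ D.sel,
      elemW gd (D.flat u) = g → ε g = if D.neg u then -1 else 1 := by
  have hmem := D.mem_group_iff hn htbl h
  simp only [Mono.checkGroup, Bool.and_eq_true, List.all_eq_true, decide_eq_true_eq] at h
  obtain ⟨⟨h1, hnd⟩, hcl⟩ := h
  have huniq : ∀ x ∈ D.signed n tbl, ∀ y ∈ D.signed n tbl, x.1 = y.1 → x = y := fun x hx y hy he =>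
    List.inj_on_of_nodup_map hnd hx hy he
  let f : ↥(alternatingGroup (Fin n)) → ℤˣ := fun g =>
    if (code g, true) ∈ D.signed n tbl then -1 else 1
  have hf : ∀ g : ↥(alternatingGroup (Fin n)), ∀ b, (code g, b) ∈ D.signed n tbl →
      f g = if b then -1 else 1 := by
    intro g b hb
    cases b with
    | true => simp only [f, if_pos hb, if_true]
    | false =>
      have : (code g, true) ∉ D.signed n tbl := fun h' => by
        simpa using congrArg Prod.snd (huniq _ h' _ hb rfl)
      simp [f, this]
  have hu0 : ∀ u ∈ D.sel, (code (elemW gd (D.flat u)), D.neg u) ∈ D.signed n tbl := fun u hu => by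
    rw [← evalW_eq hn htbl]; exact List.mem_map_of_mem hu
  have hmul : ∀ g ∈ D.group gd, ∀ y ∈ D.group gd, f (g * y) = f g * f y := by
    intro g hg
    have hg' : g ∈ Submonoid.closure {x | ∃ s ∈ D.S, elemW gd s.1 = x} := by
      rw [← Subgroup.closure_toSubmonoid_of_finite]
      exact hg
    clear hg
    induction hg' using Submonoid.closure_induction_left with
    | one =>
      intro y _
      rw [one_mul, hf 1 false (by rw [code_one]; exact h1)]
      simp
    | mul_left x hx g hg ih =>
      obtain ⟨s, hs, rfl⟩ := hx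
      have hgG : g ∈ D.group gd := by
        have : g ∈ (Subgroup.closure {x | ∃ s ∈ D.S, elemW gd s.1 = x}).toSubmonoid := by
          rw [Subgroup.closure_toSubmonoid_of_finite]; exact hg
        exact this
      have hstep : ∀ y ∈ D.group gd, f (elemW gd s.1 * y) = (if s.2 then -1 else 1) * f y := by
        intro y hy
        obtain ⟨u, hu, rfl⟩ := (hmem y).1 hy
        have := hcl s hs _ (hu0 u hu)
        rw [evalW_eq hn htbl, ← code_mul hn] at this
        rw [hf _ _ this, hf _ _ (hu0 u hu)]
        cases s.2 <;> cases D.neg u <;> simp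
      intro y hy
      rw [mul_assoc, hstep _ (mul_mem hgG hy), ih y hy, hstep g hgG, mul_assoc]
  refine ⟨MonoidHom.mk' (fun g => f g) fun a b => hmul _ a.2 _ b.2, fun g u hu he => ?_⟩
  show f g = _
  rw [← he]
  exact hf _ _ (hu0 u hu)

end Cfsg.Agent.AltCent
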