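/-
The linear relation on the values of a Brauer character given by an eigenvector-free subgroup.
-/
import Cfsg.Agent.Lib.AltCentraliser.BrauerAvg
import Cfsg.Agent.Lib.AltCentraliser.Enum

set_option autoImplicit false
set_option linter.style.haveILetI false
set_option linter.unusedSectionVars false

namespace Cfsg.Agent.AltCent

open Cfsg MonoidAlgebra Cfsg.Agent.Blocks Cfsg.Agent.BrauerPairs Cfsg.Agent.BrauerChar

universe u v

section Conj

variable {G : Type u} [Group G] [Fintype G] {M : Ideal AlgInt} [M.IsPrime] {p : ℕ}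
variable {V : Type v} [AddCommGroup V] [Module (resField M) V]

theorem br_conj (F : MonoidAlgebra (resField M) G →ₐ[resField M] Module.End (resField M) V)
    (g u : G) : br p F (g * u * g⁻¹) = br p F u := by
  rw [← MulAut.conj_apply, ← br_comp]
  have hx : ∀ x : MonoidAlgebra (resField M) G,
      MonoidAlgebra.domCongr (resField M) (resField M) (MulAut.conj g) x =
        MonoidAlgebra.single g 1 * x * MonoidAlgebra.single g⁻¹ 1 := by
    intro x
    induction x using MonoidAlgebra.induction_linear with
    | zero => simp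
    | add a b ha hb => rw [map_add, ha, hb, mul_add, add_mul]
    | single a c =>
      rw [MonoidAlgebra.single_mul_single, MonoidAlgebra.single_mul_single, one_mul, mul_one]
      simp [MulAut.conj_apply]
  simp only [br, eigMult]
  congr 1
  refine Finset.sum_congr rfl fun j _ => ?_
  rw [show (F.comp (MonoidAlgebra.domCongr (resField M) (resField M) (MulAut.conj g)).toAlgHom)
    (eigK M u j) = F (MonoidAlgebra.single g 1 * eigK M u j * MonoidAlgebra.single g⁻¹ 1) from
    congrArg F (hx _)]
  set P := F (MonoidAlgebra.single g 1) with hP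
  set Q := F (MonoidAlgebra.single g⁻¹ 1) with hQ
  have h1 : P * Q = 1 := by
    rw [hP, hQ, ← map_mul, MonoidAlgebra.single_mul_single, mul_inv_cancel, one_mul,
      ← MonoidAlgebra.one_def, map_one]
  have h2 : Q * P = 1 := by
    rw [hP, hQ, ← map_mul, MonoidAlgebra.single_mul_single, inv_mul_cancel, one_mul,
      ← MonoidAlgebra.one_def, map_one]
  let e : V ≃ₗ[resField M] V := LinearEquiv.ofLinearMap P Q h1 h2
  rw [map_mul, map_mul, ← hP, ← hQ]
  have hr : LinearMap.range (P * F (eigK M u j) * Q) =
      (LinearMap.range (F (eigK M u j))).map (e : V →ₗ[resField M] V) := by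
    rw [Module.End.mul_eq_comp, Module.End.mul_eq_comp, LinearMap.range_comp_of_range_eq_top _ ?_,
      LinearMap.range_comp]
    · rfl
    · exact LinearMap.range_eq_top.2 e.symm.surjective
  rw [hr, LinearEquiv.finrank_map_eq]

end Conj

/-- The classes of the listed elements: a representative index and a conjugating element. -/
def checkClasses (n : ℕ) (tbl : List ℕ) (D : Mono) (reps : List (List (Fin n × Fin n)))
    (cls : List (ℕ × List (Fin n × Fin n))) : Bool :=
  decide (cls.length = D.sel.length) &&
  (List.zip D.sel cls).all fun x =>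
    decide (x.2.1 < reps.length) &&
    decide (compC n (code (mkA x.2.2)) (evalW n tbl (D.flat x.1)) =
      compC n (code (mkA (reps.getD x.2.1 []))) (code (mkA x.2.2)))

/-- The signed count of the elements of a class. -/
def classCount {n : ℕ} (D : Mono) (cls : List (ℕ × List (Fin n × Fin n))) (t : ℕ) : ℤ :=
  ((List.zip D.sel cls).map fun x =>
    if x.2.1 = t then (if D.neg x.1 then -1 else 1) else 0).sum

variable {n : ℕ} {M : Ideal AlgInt} [M.IsPrime] {p : ℕ}
variable {V : Type v} [AddCommGroup V] [Module (resField M) V] [FiniteDimensional (resField M) V]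

theorem sum_classCount (hM : IsPModular p M)
    (ρ : Representation (resField M) ↥(alternatingGroup (Fin n)) V) (hn : n ≤ 16)
    {gd : List (List (Fin n × Fin n))} {tbl : List ℕ}
    (htbl : gd.map (fun l => code (mkA l)) = tbl) (D : Mono)
    (hgroup : D.checkGroup n tbl = true) (hcop : ¬ p ∣ D.sel.length)
    (hkill : ∀ v : V, (∀ s ∈ D.S, ρ (elemW gd s.1) v = if s.2 then -v else v) → v = 0)
    {reps : List (List (Fin n × Fin n))} {cls : List (ℕ × List (Fin n × Fin n))}
    (hcls : checkClasses n tbl D reps cls = true) :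
    ∑ t ∈ Finset.range reps.length,
      (classCount D cls t : ℂ) * br p ρ.asAlgebraHom (mkA (reps.getD t [])) = 0 := by
  classical
  obtain ⟨ε, hε⟩ := D.exists_sign hn htbl hgroup
  have hnd : ((D.sel.map fun u => elemW gd (D.flat u))).Nodup := by
    have h := hgroup
    simp only [Mono.checkGroup, Bool.and_eq_true, decide_eq_true_eq] at h
    refine List.Nodup.of_map code ?_
    refine (Eq.subst ?_ h.1.2 : List.Nodup _)
    simp [Mono.signed, evalW_eq hn htbl]
  set fl : Finset ↥(alternatingGroup (Fin n)) :=
    ((D.sel.map fun u => elemW gd (D.flat u))).toFinset with hfl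
  have hfin : ∀ g, g ∈ fl ↔ g ∈ D.group gd := fun g => by
    rw [hfl, List.mem_toFinset, List.mem_map, D.mem_group_iff hn htbl hgroup]
  have hcard : Nat.card ↥(D.group gd) = D.sel.length := by
    rw [Nat.card_congr ((Equiv.subtypeEquivRight hfin).symm), Nat.card_eq_fintype_card,
      Fintype.card_coe, hfl, List.toFinset_card_of_nodup hnd, List.length_map]
  let f : ↥(alternatingGroup (Fin n)) → ℂ := fun g =>
    if h : g ∈ D.group gd then ((ε ⟨g, h⟩ : ℤ) : ℂ) * br p ρ.asAlgebraHom g else 0
  have hsum : (((D.sel.map fun u => elemW gd (D.flat u))).map f).sum = 0 := by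
    rw [← List.sum_toFinset f hnd, ← hfl]
    have h0 := sum_sign_br_eq_zero hM ρ.asAlgebraHom (D.group gd) (by rwa [hcard]) ε ?_
    · rw [← h0, Finset.sum_subtype fl hfin f]
      exact Finset.sum_congr rfl fun s _ => by simp [f, s.2]
    · intro v hv
      refine hkill v fun s hs => ?_
      have hsG : elemW gd s.1 ∈ D.group gd := Subgroup.subset_closure ⟨s, hs, rfl⟩
      have := hv ⟨_, hsG⟩
      rw [Representation.asAlgebraHom_single_one] at this
      rw [this]
      obtain ⟨u, hu, he⟩ := (D.mem_group_iff hn htbl hgroup _).1 hsG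
      have hg := hgroup
      simp only [Mono.checkGroup, Bool.and_eq_true, List.all_eq_true, decide_eq_true_eq] at hg
      obtain ⟨u1, hu1, he1⟩ := List.mem_map.1 hg.1.1
      have hc := hg.2 s hs _ (List.mem_map_of_mem hu1)
      rw [show evalW n tbl (D.flat u1) = idC n from congrArg Prod.fst he1,
        show D.neg u1 = false from congrArg Prod.snd he1, evalW_eq hn htbl, ← code_one,
        ← code_mul hn, mul_one] at hc
      have hs2 : D.neg u = s.2 := by
        have hin : (code (elemW gd s.1), D.neg u) ∈ D.signed n tbl := by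
          rw [← he, ← evalW_eq hn htbl]; exact List.mem_map_of_mem hu
        simpa using congrArg Prod.snd (List.inj_on_of_nodup_map hg.1.2 hin hc rfl)
      rw [hε _ u hu he, hs2]
      cases s.2 <;> simp
  simp only [checkClasses, Bool.and_eq_true, List.all_eq_true, decide_eq_true_eq] at hcls
  obtain ⟨hlen, hall⟩ := hcls
  set X : ℕ → ℂ := fun t => br p ρ.asAlgebraHom (mkA (reps.getD t [])) with hX
  have hterm : ∀ x ∈ List.zip D.sel cls,
      f (elemW gd (D.flat x.1)) = ((if D.neg x.1 then -1 else 1 : ℤ) : ℂ) * X x.2.1 ∧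
        x.2.1 < reps.length := by
    intro x hx
    obtain ⟨hlt, he⟩ := hall x hx
    refine ⟨?_, hlt⟩
    have hxs : x.1 ∈ D.sel := (List.of_mem_zip hx).1
    have hmem : elemW gd (D.flat x.1) ∈ D.group gd :=
      (D.mem_group_iff hn htbl hgroup _).2 ⟨_, hxs, rfl⟩
    simp only [f, dif_pos hmem, hε ⟨_, hmem⟩ x.1 hxs rfl]
    rw [evalW_eq hn htbl, ← code_mul hn, ← code_mul hn] at he
    have he' := code_injective hn he
    rw [hX, ← br_conj ρ.asAlgebraHom (mkA x.2.2) (elemW gd (D.flat x.1)), he',
      mul_inv_cancel_right]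
    cases D.neg x.1 <;> simp
  have hz : ((List.zip D.sel cls).map fun x => f (elemW gd (D.flat x.1))).sum = 0 := by
    have : (List.zip D.sel cls).map Prod.fst = D.sel :=
      List.map_fst_zip (le_of_eq hlen.symm)
    rw [← hsum, List.map_map]
    conv_rhs => rw [← this, List.map_map]
    rfl
  rw [← hz]
  unfold classCount
  generalize List.zip D.sel cls = L at hterm
  induction L with
  | nil => simp
  | cons x L ih =>
    obtain ⟨hx, hlt⟩ := hterm x (by simp)
    rw [List.map_cons, List.sum_cons, hx, ← ih fun y hy => hterm y (by simp [hy])]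
    simp only [List.map_cons, List.sum_cons, Int.cast_add, add_mul, Finset.sum_add_distrib]
    congr 1
    rw [Finset.sum_eq_single x.2.1]
    · simp [hX]
    · intro b _ hb
      simp [Ne.symm hb]
    · intro h
      exact absurd (Finset.mem_range.2 hlt) h

end Cfsg.Agent.AltCent
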