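/-
Covers of alternating groups in which noncentral `p`-elements have solvable centralisers.
-/
import Cfsg.Agent.Lib.AltCentraliser.Basic
import Cfsg.Agent.Lib.LocalEven.Coprime
import Cfsg.Agent.Lib.Solvable.SchurZassenhaus
import Mathlib.GroupTheory.Frattini
import Mathlib.GroupTheory.Sylow
import Mathlib.Algebra.Module.ZMod

set_option autoImplicit false
set_option linter.style.haveILetI false

namespace Cfsg.Agent.AltCent

open scoped commutatorElement

universe u

theorem isSolvable_map {A B : Type*} [Group A] [Group B] (f : A →* B) (S : Subgroup A)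
    (h : Group.IsSolvable ↥S) : Group.IsSolvable ↥(S.map f) := by
  haveI := h
  exact Group.isSolvable_of_surjective (f := f.subgroupMap S)
    (MonoidHom.subgroupMap_surjective f S)

theorem isSolvable_le {A : Type*} [Group A] {S T : Subgroup A} (hle : S ≤ T)
    (h : Group.IsSolvable ↥T) : Group.IsSolvable ↥S := by
  haveI := h
  exact Group.isSolvable_of_isSolvable_injective (f := Subgroup.inclusion hle)
    (Subgroup.inclusion_injective hle)

theorem isSolvable_of_commutator {A : Type*} [Group A] (H : Subgroup A)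
    (h : Group.IsSolvable ↥⁅H, H⁆) : Group.IsSolvable ↥H := by
  have hmap : (commutator ↥H).map H.subtype = ⁅H, H⁆ := by
    rw [commutator_def, Subgroup.map_commutator, ← MonoidHom.range_eq_map, H.range_subtype]
  haveI : Group.IsSolvable ↥(commutator ↥H) := by
    have h' : Group.IsSolvable ↥((commutator ↥H).map H.subtype) := hmap ▸ h
    haveI := h'
    exact Group.isSolvable_of_isSolvable_injective
      (f := ((commutator ↥H).equivMapOfInjective H.subtype H.subtype_injective).toMonoidHom)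
      (MulEquiv.injective _)
  exact Group.isSolvable_of_ker_le_range (commutator ↥H).subtype Abelianization.of
    (by rw [Abelianization.ker_of, Subgroup.range_subtype])

theorem isNilpotent_of_injective {A B : Type*} [Group A] [Group B] [Group.IsNilpotent B]
    (f : A →* B) (hf : Function.Injective f) : Group.IsNilpotent A :=
  Group.nilpotent_of_mulEquiv (MonoidHom.ofInjective hf).symm

theorem commutator_le_centralizer {K : Type*} [Group K] {N : Subgroup K} {x : K}
    (hmem : ∀ n ∈ N, ⁅n, x⁆ ∈ Subgroup.center K) :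
    ⁅N, N⁆ ≤ Subgroup.centralizer ({x} : Set K) := by
  rw [Subgroup.commutator_le]
  intro a' ha' b' hb'
  rw [Subgroup.mem_centralizer_singleton_iff]
  obtain ⟨a, ha, rfl⟩ : ∃ a ∈ N, a⁻¹ = a' := ⟨a'⁻¹, inv_mem ha', inv_inv a'⟩
  obtain ⟨b, hb, rfl⟩ : ∃ b ∈ N, b⁻¹ = b' := ⟨b'⁻¹, inv_mem hb', inv_inv b'⟩
  have k1 : ∀ z w : K, z ∈ Subgroup.center K → ∀ g, g * (z * w) * g⁻¹ = z * (g * w * g⁻¹) := by
    intro z w hz g
    rw [← mul_assoc g, Subgroup.mem_center_iff.1 hz g]
    simp [mul_assoc]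
  have e : ∀ n : K, n * x * n⁻¹ = ⁅n, x⁆ * x := fun n => by
    simp [commutatorElement_def, mul_assoc]
  have hconj : a * b * x * (a * b)⁻¹ = b * a * x * (b * a)⁻¹ := by
    calc a * b * x * (a * b)⁻¹ = a * (b * x * b⁻¹) * a⁻¹ := by group
      _ = ⁅b, x⁆ * (⁅a, x⁆ * x) := by rw [e b, k1 _ _ (hmem b hb), e a]
      _ = ⁅a, x⁆ * (⁅b, x⁆ * x) := by
        rw [← mul_assoc, ← mul_assoc, Subgroup.mem_center_iff.1 (hmem a ha) ⁅b, x⁆]
      _ = b * (a * x * a⁻¹) * b⁻¹ := by rw [e a, k1 _ _ (hmem a ha), e b]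
      _ = b * a * x * (b * a)⁻¹ := by group
  calc ⁅a⁻¹, b⁻¹⁆ * x = (b * a)⁻¹ * (a * b * x * (a * b)⁻¹) * (a * b) := by
        simp [commutatorElement_def, mul_assoc]
    _ = (b * a)⁻¹ * (b * a * x * (b * a)⁻¹) * (a * b) := by rw [hconj]
    _ = x * ⁅a⁻¹, b⁻¹⁆ := by simp [commutatorElement_def, mul_assoc]

/-- A surjection onto a group with kernel in the Frattini subgroup, and central subgroup `Z`
outside which the `p`-elements have solvable centralisers. -/
structure Cover (p : ℕ) (K : Type u) (A : Type) [Group K] [Group A] where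
  π : K →* A
  surj : Function.Surjective π
  ker_le : π.ker ≤ frattini K
  Z : Subgroup K
  central : Z ≤ Subgroup.center K
  solv : ∀ x : K, x ∉ Z → (∃ k, orderOf x = p ^ k) →
    Group.IsSolvable ↥(Subgroup.centralizer ({x} : Set K))

variable {p : ℕ} [Fact p.Prime] {K : Type u} [Group K] [Finite K] {A : Type} [Group A]
  (D : Cover p K A)

omit [Fact p.Prime] in
theorem Cover.isNilpotent_ker : Group.IsNilpotent ↥D.π.ker :=
  haveI := (frattini_nilpotent : Group.IsNilpotent ↥(frattini K))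
  isNilpotent_of_injective (Subgroup.inclusion D.ker_le) (Subgroup.inclusion_injective _)

omit [Finite K] in
theorem Cover.pow_of_mem {P : Subgroup K} (hP : IsPGroup p ↥P) {x : K} (hx : x ∈ P) :
    ∃ k, orderOf x = p ^ k := by
  obtain ⟨k, hk⟩ := IsPGroup.iff_orderOf.1 hP ⟨x, hx⟩
  exact ⟨k, by rw [← hk, Subgroup.orderOf_mk]⟩

section Frame

/-- The setting over a central `p`-element of the image commuting with a perfect group. -/
structure Frame where
  xb : A
  xb_pow : ∃ k, orderOf xb = p ^ k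
  xb_not_central : ∃ a : A, a * xb ≠ xb * a
  J : Subgroup A
  J_perfect : ⁅J, J⁆ = J
  J_not_solvable : ¬ Group.IsSolvable ↥J
  J_comm : ∀ j ∈ J, j * xb = xb * j

variable (W : Frame (p := p) (A := A))
include W

theorem Cover.exists_lift :
    ∃ (x : K) (P N : Subgroup K), D.π x = W.xb ∧ x ∈ P ∧ IsPGroup p ↥P ∧ W.J ≤ N.map D.π ∧
      (∀ n ∈ N, n ∈ Subgroup.normalizer (P : Set K)) ∧
      (∀ n ∈ N, D.π n * W.xb = W.xb * D.π n) ∧
      ∀ y ∈ P, D.π y ∈ Subgroup.zpowers W.xb := by
  classical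
  obtain ⟨a, ha⟩ := W.xb_pow
  obtain ⟨y, hy⟩ := D.surj W.xb
  -- the `p`-part of a preimage
  set o := orderOf y with ho
  have ho0 : o ≠ 0 := (orderOf_pos y).ne'
  set c := o.factorization p
  set b := o / p ^ c
  have hob : p ^ c * b = o := Nat.ordProj_mul_ordCompl_eq_self o p
  have hcop : Nat.Coprime b (p ^ a) := by
    refine Nat.Coprime.pow_right a ?_
    exact (Nat.coprime_ordCompl (Fact.out : p.Prime) ho0).symm
  obtain ⟨t, ht⟩ : ∃ t, (b * t) % p ^ a = 1 % p ^ a := by
    rcases Nat.eq_zero_or_pos a with rfl | ha0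
    · exact ⟨0, by simp [Nat.mod_one]⟩
    · obtain ⟨t, -, ht⟩ := Nat.exists_mul_mod_eq_one_of_coprime hcop
        (Nat.one_lt_pow ha0.ne' (Fact.out : p.Prime).one_lt)
      exact ⟨t, by rw [ht, Nat.mod_eq_of_lt (Nat.one_lt_pow ha0.ne'
        (Fact.out : p.Prime).one_lt)]⟩
  set x := y ^ (b * t) with hx
  have hxo : x ^ p ^ c = 1 := by
    rw [hx, ← pow_mul, show b * t * p ^ c = o * t by rw [← hob]; ring, pow_mul, ho,
      pow_orderOf_eq_one, one_pow]
  have hπx : D.π x = W.xb := by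
    rw [hx, map_pow, hy, ← pow_mod_orderOf, ha, ht, ← ha, pow_mod_orderOf, pow_one]
  set C := (Subgroup.centralizer ({W.xb} : Set A)).comap D.π with hC
  set X := (Subgroup.zpowers W.xb).comap D.π with hX
  have hXC : X ≤ C := by
    intro k hk
    obtain ⟨i, hi⟩ := Subgroup.mem_zpowers_iff.1 (Subgroup.mem_comap.1 hk)
    rw [hC, Subgroup.mem_comap, Subgroup.mem_centralizer_singleton_iff, ← hi]
    exact (Commute.zpow_self W.xb i).eq
  set X' := X.subgroupOf C with hX'
  haveI : X'.Normal := ⟨fun k hk g => by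
    rw [hX', Subgroup.mem_subgroupOf, hX, Subgroup.mem_comap] at hk ⊢
    obtain ⟨i, hi⟩ := Subgroup.mem_zpowers_iff.1 hk
    have hg : D.π (g : K) * W.xb = W.xb * D.π (g : K) :=
      Subgroup.mem_centralizer_singleton_iff.1 (Subgroup.mem_comap.1 g.2)
    have : D.π ((g * k * g⁻¹ : ↥C) : K) = W.xb ^ i := by
      simp only [Subgroup.coe_mul, InvMemClass.coe_inv, map_mul, map_inv, ← hi]
      rw [((Commute.zpow_right (show Commute (D.π (g : K)) W.xb from hg) i)).eq,
        mul_inv_cancel_right]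
    rw [this]
    exact Subgroup.zpow_mem_zpowers _ _⟩
  have hxX : x ∈ X := by
    rw [hX, Subgroup.mem_comap, hπx]
    exact Subgroup.mem_zpowers _
  set xX : ↥X' := ⟨⟨x, hXC hxX⟩, hxX⟩
  have hp0 : IsPGroup p ↥(Subgroup.zpowers xX) := by
    refine IsPGroup.iff_orderOf.2 fun g => ?_
    have hxX' : xX ^ p ^ c = 1 := Subtype.ext (Subtype.ext (by simpa [xX] using hxo))
    have hdvd : orderOf g ∣ p ^ c := by
      rw [← Subgroup.orderOf_coe]
      exact dvd_trans (orderOf_dvd_of_mem_zpowers g.2) (orderOf_dvd_of_pow_eq_one hxX')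
    obtain ⟨i, -, hi⟩ := (Nat.dvd_prime_pow (Fact.out : p.Prime)).1 hdvd
    exact ⟨i, hi⟩
  obtain ⟨Q, hQ⟩ := hp0.exists_le_sylow
  set Q' := (Q : Subgroup ↥X').map X'.subtype with hQ'
  refine ⟨x, Q'.map C.subtype, (Subgroup.normalizer (Q' : Set ↥C)).map C.subtype, hπx,
    ⟨_, ⟨xX, hQ (Subgroup.mem_zpowers _), rfl⟩, rfl⟩, (Q.2.map _).map _, ?_, ?_, ?_, ?_⟩
  · -- the image contains the derived group of the centraliser
    set N0 := ((Subgroup.normalizer (Q' : Set ↥C)).map C.subtype).map D.π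
    have hdec : ∀ j ∈ W.J, ∃ n ∈ N0, ∃ z ∈ Subgroup.zpowers W.xb, j = n * z := by
      intro j hj
      obtain ⟨k, rfl⟩ := D.surj j
      have hk : k ∈ C := by
        rw [hC, Subgroup.mem_comap, Subgroup.mem_centralizer_singleton_iff]
        exact W.J_comm _ hj
      have htop := Sylow.normalizer_sup_eq_top Q
      have hmem : (⟨k, hk⟩ : ↥C) ∈ Subgroup.normalizer (Q' : Set ↥C) ⊔ X' := by
        rw [hQ', htop]; exact Subgroup.mem_top _
      obtain ⟨n, hn, z, hz, hnz⟩ := Subgroup.mem_sup_of_normal_right.1 hmem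
      exact ⟨_, Subgroup.mem_map_of_mem _ (Subgroup.mem_map_of_mem _ hn), _, hz, by
        rw [show k = ((n * z : ↥C) : K) from (congrArg Subtype.val hnz).symm]; simp⟩
    have hN0 : ∀ n ∈ N0, n * W.xb = W.xb * n := by
      rintro _ ⟨k, ⟨k', -, rfl⟩, rfl⟩
      exact Subgroup.mem_centralizer_singleton_iff.1 (Subgroup.mem_comap.1 k'.2)
    conv_lhs => rw [← W.J_perfect]
    rw [Subgroup.commutator_le]
    intro a ha b hb
    obtain ⟨n, hn, z, hz, rfl⟩ := hdec a ha
    obtain ⟨n', hn', z', hz', rfl⟩ := hdec b hb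
    obtain ⟨i, rfl⟩ := Subgroup.mem_zpowers_iff.1 hz
    obtain ⟨i', rfl⟩ := Subgroup.mem_zpowers_iff.1 hz'
    have c1 : Commute n W.xb := hN0 n hn
    have c2 : Commute n' W.xb := hN0 n' hn'
    have e : ⁅n * W.xb ^ i, n' * W.xb ^ i'⁆ = ⁅n, n'⁆ := by
      have h1 : Commute (W.xb ^ i) n' := (c2.zpow_right i).symm
      have h2 : Commute (W.xb ^ i) (W.xb ^ i') := Commute.zpow_zpow (Commute.refl _) i i'
      have h3 : Commute (W.xb ^ i') n := (c1.zpow_right i').symm
      simp only [commutatorElement_def, mul_inv_rev]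
      calc n * W.xb ^ i * (n' * W.xb ^ i') * ((W.xb ^ i)⁻¹ * n⁻¹) * ((W.xb ^ i')⁻¹ * n'⁻¹)
          = n * ((W.xb ^ i * (n' * W.xb ^ i')) * (W.xb ^ i)⁻¹) * n⁻¹ *
              ((W.xb ^ i')⁻¹ * n'⁻¹) := by group
        _ = n * (n' * W.xb ^ i') * n⁻¹ * ((W.xb ^ i')⁻¹ * n'⁻¹) := by
            rw [(h1.mul_right h2).eq, mul_inv_cancel_right]
        _ = n * n' * (W.xb ^ i' * n⁻¹ * (W.xb ^ i')⁻¹) * n'⁻¹ := by group
        _ = n * n' * n⁻¹ * n'⁻¹ := by rw [h3.inv_right.eq, mul_inv_cancel_right]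
    rw [e]
    simp only [commutatorElement_def]
    exact mul_mem (mul_mem (mul_mem hn hn') (inv_mem hn)) (inv_mem hn')
  · rintro _ ⟨n, hn, rfl⟩
    rw [Subgroup.mem_normalizer_iff]
    intro h
    constructor
    · rintro ⟨q, hq, rfl⟩
      exact ⟨n * q * n⁻¹, (Subgroup.mem_normalizer_iff.1 hn q).1 hq, by simp⟩
    · rintro ⟨q, hq, he⟩
      refine ⟨n⁻¹ * q * n, ?_, ?_⟩
      · have h2 := (Subgroup.mem_normalizer_iff.1 hn (n⁻¹ * q * n)).2
        rw [show n * (n⁻¹ * q * n) * n⁻¹ = q by group] at h2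
        exact h2 hq
      · simp only [Subgroup.coe_subtype] at he ⊢
        simp only [Subgroup.coe_mul, InvMemClass.coe_inv, he]
        group
  · rintro _ ⟨n, -, rfl⟩
    exact Subgroup.mem_centralizer_singleton_iff.1 (Subgroup.mem_comap.1 n.2)
  · rintro _ ⟨q, ⟨q', -, rfl⟩, rfl⟩
    exact q'.2

/-- If the `p`-elements of the kernel are central in the ambient group, the centraliser of a lift
is not solvable. -/
theorem Cover.false_of_ker_central
    (hZ : ∀ y ∈ D.π.ker, (∃ k, orderOf y = p ^ k) → y ∈ D.Z) : False := by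
  obtain ⟨x, P, N, hπx, hxP, hP, hJ, hNP, hNc, -⟩ := D.exists_lift W
  have hxZ : x ∉ D.Z := by
    intro h
    obtain ⟨a, ha⟩ := W.xb_not_central
    obtain ⟨k, rfl⟩ := D.surj a
    have := congrArg D.π (Subgroup.mem_center_iff.1 (D.central h) k)
    rw [map_mul, map_mul, hπx] at this
    exact ha this
  have hmem : ∀ n ∈ N, ⁅n, x⁆ ∈ Subgroup.center K := by
    intro n hn
    refine D.central (hZ _ ?_ (Cover.pow_of_mem hP ?_))
    · rw [MonoidHom.mem_ker, map_commutatorElement, hπx, commutatorElement_eq_one_iff_mul_comm]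
      exact hNc n hn
    · rw [commutatorElement_def]
      exact mul_mem ((Subgroup.mem_normalizer_iff.1 (hNP n hn) x).1 hxP) (inv_mem hxP)
  have hle := commutator_le_centralizer hmem
  refine W.J_not_solvable ?_
  have h1 := isSolvable_map D.π _ (isSolvable_le hle (D.solv x hxZ (Cover.pow_of_mem hP hxP)))
  refine isSolvable_le ?_ h1
  rw [Subgroup.map_commutator]
  exact W.J_perfect.symm.le.trans (Subgroup.commutator_mono hJ hJ)

include D in
/-- If the perfect group has order prime to `p`, some lift has a nonsolvable centraliser. -/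
theorem Cover.false_of_coprime (hJp : ¬ p ∣ Nat.card ↥W.J) : False := by
  classical
  obtain ⟨x, P, N, hπx, hxP, hP, hJ, hNP, hNc, hPπ⟩ := D.exists_lift W
  set S := {B : Subgroup K | B ≤ N ∧ B.map D.π = W.J} with hS
  have hne : S.Nonempty := ⟨N ⊓ W.J.comap D.π, inf_le_left, le_antisymm
    (Subgroup.map_le_iff_le_comap.2 inf_le_right) fun j hj => by
      obtain ⟨n, hn, rfl⟩ := hJ hj
      exact ⟨n, ⟨hn, hj⟩, rfl⟩⟩
  obtain ⟨B, ⟨hBN, hBJ⟩, hmin⟩ := (wellFounded_lt (α := Subgroup K)).has_min S hne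
  -- the order of `B` is prime to `p`
  have hBp : ¬ p ∣ Nat.card ↥B := by
    intro hdvd
    obtain ⟨Q⟩ : Nonempty (Sylow p ↥B) := inferInstance
    set R := (D.π.ker).subgroupOf B with hR
    have hQR : (Q : Subgroup ↥B) ≤ R := by
      intro q hq
      rw [hR, Subgroup.mem_subgroupOf, MonoidHom.mem_ker]
      have h1 : orderOf (D.π (q : K)) ∣ Nat.card ↥W.J :=
        Subgroup.orderOf_dvd_natCard _ (hBJ ▸ Subgroup.mem_map_of_mem _ q.2)
      obtain ⟨k, hk⟩ := IsPGroup.iff_orderOf.1 Q.2 ⟨q, hq⟩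
      rw [Subgroup.orderOf_mk] at hk
      have h2 : orderOf (D.π (q : K)) ∣ p ^ k := by
        rw [← hk, ← Subgroup.orderOf_coe]
        exact orderOf_map_dvd D.π (q : K)
      exact orderOf_eq_one_iff.1 (Nat.eq_one_of_dvd_coprimes
        (Nat.Coprime.pow_left k ((Fact.out : p.Prime).coprime_iff_not_dvd.2 hJp)) h2 h1)
    have hRn : Group.IsNilpotent ↥R := by
      haveI := D.isNilpotent_ker
      exact isNilpotent_of_injective
        ((B.subtype.comp R.subtype).codRestrict D.π.ker fun r => r.2)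
        (fun a b h => Subtype.ext (Subtype.ext (congrArg (fun w : ↥D.π.ker => (w : K)) h)))
    haveI : R.Normal := inferInstanceAs ((D.π.ker).subgroupOf B).Normal
    have hQn : (Q : Subgroup ↥B).Normal := by
      haveI := hRn
      have hn : ((Q.subtype hQR : Sylow p ↥R) : Subgroup ↥R).Normal :=
        Sylow.normal_of_normalizerCondition Group.normalizerCondition_of_isNilpotent (Q.subtype hQR)
      haveI := Sylow.characteristic_of_normal _ hn
      have := ConjAct.normal_of_characteristic_of_normal (H := R)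
        (K := ((Q.subtype hQR : Sylow p ↥R) : Subgroup ↥R))
      rwa [Sylow.coe_subtype, Subgroup.map_subgroupOf_eq_of_le hQR] at this
    haveI := hQn
    obtain ⟨T, hT⟩ := Subgroup.exists_right_complement'_of_coprime (N := (Q : Subgroup ↥B))
      (Sylow.card_coprime_index Q)
    have hTJ : (T.map B.subtype).map D.π = W.J := by
      refine le_antisymm (hBJ ▸ Subgroup.map_mono (Subgroup.map_subtype_le T)) ?_
      rw [← hBJ]
      rintro _ ⟨b, hb, rfl⟩
      have hmem : (⟨b, hb⟩ : ↥B) ∈ (Q : Subgroup ↥B) ⊔ T := by rw [hT.sup_eq_top]; trivial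
      obtain ⟨q, hq, t, ht, hqt⟩ := Subgroup.mem_sup_of_normal_left.1 hmem
      refine ⟨t, Subgroup.mem_map_of_mem _ ht, ?_⟩
      rw [show b = ((q * t : ↥B) : K) from (congrArg Subtype.val hqt).symm]
      have hq1 : D.π (q : K) = 1 := hQR hq
      simp [hq1]
    have hTB : T.map B.subtype = B :=
      (eq_or_lt_of_le (Subgroup.map_subtype_le T)).resolve_right fun h =>
        hmin _ ⟨(Subgroup.map_subtype_le T).trans hBN, hTJ⟩ h
    have hTtop : T = ⊤ := by
      rw [eq_top_iff]
      intro b _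
      obtain ⟨t, ht, he⟩ := (hTB.ge b.2 : (b : K) ∈ T.map B.subtype)
      exact Subtype.ext he ▸ ht
    have hQ1 : (Q : Subgroup ↥B) = ⊥ := by
      have := hT.disjoint
      rwa [hTtop, disjoint_top] at this
    have := Q.dvd_card_of_dvd_card hdvd
    rw [hQ1, Subgroup.card_bot] at this
    exact (Fact.out : p.Prime).one_lt.ne' (Nat.dvd_one.1 this)
  -- a fixed point in the coset
  set N' := P ⊓ D.π.ker with hN'
  have hN'B : B ≤ Subgroup.normalizer (N' : Set K) := by
    intro b hb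
    have hPb := Subgroup.mem_normalizer_iff.1 (hNP b (hBN hb))
    rw [Subgroup.mem_normalizer_iff]
    intro h
    refine and_congr (hPb h) ⟨fun hk => (MonoidHom.normal_ker D.π).conj_mem h hk b, fun hk => ?_⟩
    have := (MonoidHom.normal_ker D.π).conj_mem _ hk b⁻¹
    simpa [mul_assoc] using this
  have hxN' : x ∈ Subgroup.normalizer (N' : Set K) := by
    have hPx := Subgroup.mem_normalizer_iff.1 (Subgroup.le_normalizer hxP)
    rw [Subgroup.mem_normalizer_iff]
    intro h
    refine and_congr (hPx h) ⟨fun hk => (MonoidHom.normal_ker D.π).conj_mem h hk x, fun hk => ?_⟩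
    have := (MonoidHom.normal_ker D.π).conj_mem _ hk x⁻¹
    simpa [mul_assoc] using this
  obtain ⟨m, hm, hcm⟩ := LECoprime.exists_fixed_coset (p := p) (hP.to_le inf_le_left) hBp hN'B
    hxN' (fun b hb => ⟨P.mul_mem (P.inv_mem hxP)
      ((Subgroup.mem_normalizer_iff.1 (hNP b (hBN hb)) x).1 hxP), by
      show x⁻¹ * (b * x * b⁻¹) ∈ D.π.ker
      rw [MonoidHom.mem_ker, map_mul, map_mul, map_mul, map_inv, map_inv, hπx,
        hNc b (hBN hb), mul_inv_cancel_right, inv_mul_cancel]⟩)
  have hxm : x * m ∉ D.Z := by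
    intro h
    obtain ⟨a, ha⟩ := W.xb_not_central
    obtain ⟨k, rfl⟩ := D.surj a
    have := congrArg D.π (Subgroup.mem_center_iff.1 (D.central h) k)
    have hπxm : D.π (x * m) = W.xb := by
      rw [map_mul, MonoidHom.mem_ker.1 hm.2, mul_one, hπx]
    rw [map_mul D.π k, map_mul D.π (x * m), hπxm] at this
    exact ha this
  refine W.J_not_solvable (hBJ ▸ isSolvable_map D.π B (isSolvable_le ?_
    (D.solv _ hxm (Cover.pow_of_mem hP (mul_mem hxP hm.1)))))
  intro b hb
  rw [Subgroup.mem_centralizer_singleton_iff]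
  exact Subgroup.mem_centralizer_iff.1 hcm b hb

end Frame

end Cfsg.Agent.AltCent
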