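/-
The `p`-part of the kernel of a cover is central when the image has no module without fixed
vectors of nonsolvable subgroups.
-/
import Cfsg.Agent.Lib.AltCentraliser.Reduce
import Mathlib.RepresentationTheory.Basic
import Mathlib.LinearAlgebra.Dimension.Finite

set_option autoImplicit false
set_option linter.style.haveILetI false

namespace Cfsg.Agent.AltCent

open scoped commutatorElement

universe u

variable {p : ℕ} [Fact p.Prime] {K : Type u} [Group K] [Finite K] {A : Type} [Group A]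
  (D : Cover p K A)

theorem Cover.exists_pgroup_normal {y : K} (hy : y ∈ D.π.ker) (hyp : ∃ k, orderOf y = p ^ k) :
    ∃ P : Subgroup K, P.Normal ∧ P ≤ D.π.ker ∧ IsPGroup p ↥P ∧ y ∈ P := by
  classical
  haveI := D.isNilpotent_ker
  set yL : ↥D.π.ker := ⟨y, hy⟩
  have hz : IsPGroup p ↥(Subgroup.zpowers yL) := by
    obtain ⟨k, hk⟩ := hyp
    refine IsPGroup.of_card (n := k) ?_
    rw [Nat.card_zpowers, ← hk, Subgroup.orderOf_mk]
  obtain ⟨Q, hQ⟩ := hz.exists_le_sylow
  have hQn : (Q : Subgroup ↥D.π.ker).Normal :=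
    Sylow.normal_of_normalizerCondition Group.normalizerCondition_of_isNilpotent Q
  haveI := Sylow.characteristic_of_normal _ hQn
  refine ⟨(Q : Subgroup ↥D.π.ker).map D.π.ker.subtype,
    ConjAct.normal_of_characteristic_of_normal, Subgroup.map_subtype_le _, Q.2.map _,
    ⟨yL, hQ (Subgroup.mem_zpowers _), rfl⟩⟩

/-- A minimal normal `p`-subgroup of the kernel outside `Z`. -/
theorem Cover.exists_layer {y : K} (hy : y ∈ D.π.ker) (hyp : ∃ k, orderOf y = p ^ k)
    (hyZ : y ∉ D.Z) :
    ∃ U : Subgroup K, U.Normal ∧ U ≤ D.π.ker ∧ IsPGroup p ↥U ∧ ¬ U ≤ D.Z ∧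
      ⁅U, D.π.ker⁆ ≤ D.Z ⊓ U ∧ ∀ u ∈ U, u ^ p ∈ D.Z ⊓ U := by
  classical
  obtain ⟨P, hPn, hPL, hPp, hyP⟩ := D.exists_pgroup_normal hy hyp
  obtain ⟨U, ⟨hUn, hUL, hUp, hUZ⟩, hmin⟩ := (wellFounded_lt (α := Subgroup K)).has_min
    {U : Subgroup K | U.Normal ∧ U ≤ D.π.ker ∧ IsPGroup p ↥U ∧ ¬ U ≤ D.Z}
    ⟨P, hPn, hPL, hPp, fun h => hyZ (h hyP)⟩
  haveI := hUn
  have hsub : ∀ W : Subgroup K, W.Normal → W ≤ U → ¬ W ≤ D.Z → W = U := fun W h1 h2 h3 =>
    (eq_or_lt_of_le h2).resolve_right fun h =>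
      hmin W ⟨h1, h2.trans hUL, hUp.to_le h2, h3⟩ h
  haveI : (D.π.ker).Normal := MonoidHom.normal_ker _
  have hcomm : ⁅U, D.π.ker⁆ ≤ D.Z ⊓ U := by
    refine le_inf ?_ (Subgroup.commutator_le_left _ _)
    by_contra hc
    have hUU := hsub _ inferInstance (Subgroup.commutator_le_left _ _) hc
    have hall : ∀ n, U ≤ (D.π.ker).lowerCentralSeries n := by
      intro n
      induction n with
      | zero => exact hUL
      | succ n ih => exact hUU.symm.le.trans (Subgroup.commutator_mono ih le_rfl)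
    obtain ⟨n, hn⟩ := (Subgroup.isNilpotent_iff_lowerCentralSeries (S := D.π.ker)).1
      D.isNilpotent_ker
    exact hUZ ((hall n).trans (hn ▸ bot_le))
  refine ⟨U, hUn, hUL, hUp, hUZ, hcomm, ?_⟩
  haveI hZn : (D.Z ⊓ U).Normal := ⟨fun z hz g => by
    rw [Subgroup.mem_center_iff.1 (D.central hz.1) g, mul_inv_cancel_right]; exact hz⟩
  set q := QuotientGroup.mk' (D.Z ⊓ U) with hq
  have hqc : ∀ a ∈ U, ∀ b ∈ U, Commute (q a) (q b) := by
    intro a ha b hb
    refine commutatorElement_eq_one_iff_mul_comm.1 ?_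
    rw [← map_commutatorElement, hq, QuotientGroup.mk'_apply, QuotientGroup.eq_one_iff]
    exact hcomm (Subgroup.commutator_mem_commutator ha (hUL hb))
  let W : Subgroup K :=
    { carrier := {u | u ∈ U ∧ q u ^ p = 1}
      one_mem' := ⟨U.one_mem, by simp⟩
      mul_mem' := fun {a b} ha hb => ⟨U.mul_mem ha.1 hb.1, by
        rw [map_mul, (hqc a ha.1 b hb.1).mul_pow, ha.2, hb.2, one_mul]⟩
      inv_mem' := fun {a} ha => ⟨U.inv_mem ha.1, by rw [map_inv, inv_pow, ha.2, inv_one]⟩ }
  have hWn : W.Normal := ⟨fun a ha g => ⟨hUn.conj_mem a ha.1 g, by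
    rw [map_mul, map_mul, map_inv, conj_pow, ha.2, mul_one, mul_inv_cancel]⟩⟩
  have hpow : ∀ u : K, q u ^ p = 1 ↔ u ^ p ∈ D.Z ⊓ U := fun u => by
    rw [← map_pow, hq, QuotientGroup.mk'_apply, QuotientGroup.eq_one_iff]
  have hWU : W = U := by
    refine hsub W hWn (fun u hu => hu.1) ?_
    obtain ⟨u, huU, huZ⟩ := SetLike.not_le_iff_exists.1 hUZ
    obtain ⟨k, hk⟩ := IsPGroup.iff_orderOf.1 hUp ⟨u, huU⟩
    rw [Subgroup.orderOf_mk] at hk
    have hex : ∃ i, u ^ p ^ i ∈ D.Z := ⟨k, by rw [← hk, pow_orderOf_eq_one]; exact D.Z.one_mem⟩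
    intro hle
    obtain ⟨i, hi⟩ := Nat.exists_eq_succ_of_ne_zero (n := Nat.find hex) (fun h0 => huZ (by
      have := Nat.find_spec hex
      rwa [h0, pow_zero, pow_one] at this))
    refine Nat.find_min hex (m := i) (by omega) (hle ⟨pow_mem huU _, ?_⟩)
    refine (hpow _).2 ⟨?_, pow_mem (pow_mem huU _) _⟩
    rw [← pow_mul, ← pow_succ]
    have := Nat.find_spec hex
    rwa [hi] at this
  intro u hu
  exact (hpow u).1 ((hWU.ge hu : u ∈ W).2)

/-- An elementary abelian group acted on by a group without such modules is trivial. -/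
theorem subsingleton_of_noModule {B : Type u} [CommGroup B] [Finite B]
    (hexp : ∀ b : B, b ^ p = 1) (φ : A →* MulAut B)
    (hmod : ∀ (V : Type u) [AddCommGroup V] [Module (ZMod p) V] [FiniteDimensional (ZMod p) V]
      (ρ : Representation (ZMod p) A V), (∀ H : Subgroup A, ¬ Group.IsSolvable ↥H →
        ∀ v : V, (∀ h ∈ H, ρ h v = v) → v = 0) → Module.finrank (ZMod p) V = 0)
    (hno : ∀ H : Subgroup A, ¬ Group.IsSolvable ↥H → ∀ b : B, (∀ h ∈ H, φ h b = b) → b = 1) :
    Subsingleton B := by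
  have hexp' : ∀ v : Additive B, p • v = 0 := fun v => Additive.toMul.injective (hexp _)
  haveI : Module (ZMod p) (Additive B) := AddCommGroup.zmodModule hexp'
  haveI : Module.Finite (ZMod p) (Additive B) := Module.Finite.of_finite
  let ρ : A →* Module.End (ZMod p) (Additive B) :=
    { toFun := fun a => (MonoidHom.toAdditive (φ a).toMonoidHom).toZModLinearMap p
      map_one' := LinearMap.ext fun v => by
        show Additive.ofMul (φ 1 (Additive.toMul v)) = v
        rw [map_one]; rfl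
      map_mul' := fun a b => LinearMap.ext fun v => by
        show Additive.ofMul (φ (a * b) (Additive.toMul v)) =
          Additive.ofMul (φ a (φ b (Additive.toMul v)))
        rw [map_mul]; rfl }
  have h0 : Module.finrank (ZMod p) (Additive B) = 0 := hmod _ ρ fun H hH v hv =>
    Additive.toMul.injective (hno H hH _ fun h hh => congrArg Additive.toMul (hv h hh))
  haveI : Subsingleton (Additive B) := Module.finrank_zero_iff.1 h0
  exact inferInstanceAs (Subsingleton (Additive B))

/-- If no nonzero module has only trivial fixed points of nonsolvable subgroups, the `p`-elements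
of the kernel lie in `Z`. -/
theorem Cover.ker_le_Z
    (hmod : ∀ (V : Type u) [AddCommGroup V] [Module (ZMod p) V] [FiniteDimensional (ZMod p) V]
      (ρ : Representation (ZMod p) A V), (∀ H : Subgroup A, ¬ Group.IsSolvable ↥H →
        ∀ v : V, (∀ h ∈ H, ρ h v = v) → v = 0) → Module.finrank (ZMod p) V = 0) :
    ∀ y ∈ D.π.ker, (∃ k, orderOf y = p ^ k) → y ∈ D.Z := by
  classical
  intro y hy hyp
  by_contra hyZ
  obtain ⟨U, hUn, hUL, hUp, hUZ, hcomm, hpow⟩ := D.exists_layer hy hyp hyZ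
  haveI := hUn
  haveI hZn : (D.Z ⊓ U).Normal := ⟨fun z hz g => by
    rw [Subgroup.mem_center_iff.1 (D.central hz.1) g, mul_inv_cancel_right]; exact hz⟩
  set q := QuotientGroup.mk' (D.Z ⊓ U) with hq
  set Ub := U.map q with hUb
  haveI : Ub.Normal := hUn.map q (QuotientGroup.mk'_surjective _)
  have hq1 : ∀ u : K, q u = 1 ↔ u ∈ D.Z ⊓ U := fun u => by
    rw [hq, QuotientGroup.mk'_apply, QuotientGroup.eq_one_iff]
  letI : CommGroup ↥Ub :=
    { (inferInstance : Group ↥Ub) with
      mul_comm := by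
        rintro ⟨_, a, ha, rfl⟩ ⟨_, b, hb, rfl⟩
        refine Subtype.ext (commutatorElement_eq_one_iff_mul_comm.1 ?_)
        simp only
        rw [← map_commutatorElement, hq1]
        exact hcomm (Subgroup.commutator_mem_commutator ha (hUL hb)) }
  have hexp : ∀ v : ↥Ub, v ^ p = 1 := by
    rintro ⟨_, u, hu, rfl⟩
    refine Subtype.ext ?_
    rw [SubmonoidClass.coe_pow, OneMemClass.coe_one]
    simp only
    rw [← map_pow, hq1]
    exact hpow u hu
  let f : K →* MulAut ↥Ub := (MulAut.conjNormal).comp q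
  have hf : D.π.ker ≤ f.ker := by
    intro k hk
    rw [MonoidHom.mem_ker]
    ext ⟨_, u, hu, rfl⟩
    simp only [f, MonoidHom.coe_comp, Function.comp_apply, MulAut.conjNormal_apply,
      MulAut.one_apply]
    rw [← commutatorElement_eq_one_iff_mul_comm.1 (show ⁅q u, q k⁆ = 1 by
      rw [← map_commutatorElement, hq1]
      exact hcomm (Subgroup.commutator_mem_commutator hu hk)), mul_inv_cancel_right]
  let φ : A →* MulAut ↥Ub := D.π.liftOfSurjective D.surj ⟨f, hf⟩
  have hφ : ∀ k, φ (D.π k) = f k := fun k => by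
    exact MonoidHom.liftOfRightInverse_comp_apply _ _ _ _ k
  have hno : ∀ H : Subgroup A, ¬ Group.IsSolvable ↥H →
      ∀ v : ↥Ub, (∀ h ∈ H, φ h v = v) → v = 1 := by
    intro H hH v hv
    obtain ⟨u, hu, he⟩ := v.2
    by_contra hne
    have huZ : u ∉ D.Z := fun h => hne (Subtype.ext (by
      rw [← he, (hq1 u).2 ⟨h, hu⟩, OneMemClass.coe_one]))
    refine hH ?_
    have hB : ∀ b ∈ H.comap D.π, ⁅b, u⁆ ∈ Subgroup.center K := by
      intro b hb
      refine D.central ((hq1 _).1 ?_).1
      have h1 : φ (D.π b) v = v := hv _ hb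
      rw [hφ] at h1
      have h2 : q b * q u * (q b)⁻¹ = q u := by
        have := congrArg Subtype.val h1
        simpa [f, MulAut.conjNormal_apply, ← he] using this
      rw [map_commutatorElement, commutatorElement_def, h2, mul_inv_cancel]
    have hord : ∃ k, orderOf u = p ^ k := Cover.pow_of_mem hUp hu
    have h3 := isSolvable_map D.π _ (isSolvable_of_commutator _
      (isSolvable_le (commutator_le_centralizer hB) (D.solv u huZ hord)))
    rwa [Subgroup.map_comap_eq_self_of_surjective D.surj] at h3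
  haveI := subsingleton_of_noModule hexp φ hmod hno
  refine hUZ fun u hu => ((hq1 u).1 ?_).1
  exact congrArg Subtype.val (Subsingleton.elim (⟨q u, u, hu, rfl⟩ : ↥Ub) 1)

end Cfsg.Agent.AltCent
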