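/-
Covers of the alternating groups of degree `p + 5`, and of degree nine for `p = 2`.
-/
import Cfsg.Agent.Lib.AltCentraliser.Module
import Cfsg.Agent.Lib.AltCentraliser.Five.Main
import Cfsg.Agent.Lib.AltCentraliser.Two.Main
import Cfsg.Agent.Lib.Classical.DicksonSolvable
import Mathlib.GroupTheory.SpecificGroups.Alternating.Centralizer
import Mathlib.GroupTheory.Perm.ViaEmbedding
import Mathlib.GroupTheory.IsPerfect

set_option autoImplicit false
set_option linter.style.haveILetI false

namespace Cfsg.Agent.AltCent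

open Equiv
open scoped commutatorElement

universe u

theorem sign_viaEmbeddingHom {m n : ℕ} (ι : Fin m ↪ Fin n) (e : Perm (Fin m)) :
    Perm.sign (Perm.viaEmbeddingHom ι e) = Perm.sign e := by
  classical
  rw [Perm.viaEmbeddingHom_apply, Perm.viaEmbedding]
  convert Perm.sign_extendDomain e _

/-- The embedding of alternating groups given by an embedding of the letters. -/
noncomputable def altMap {m n : ℕ} (ι : Fin m ↪ Fin n) :
    ↥(alternatingGroup (Fin m)) →* ↥(alternatingGroup (Fin n)) :=
  ((Perm.viaEmbeddingHom ι).comp (alternatingGroup (Fin m)).subtype).codRestrict _ fun e => by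
    rw [Perm.mem_alternatingGroup]
    simp only [MonoidHom.coe_comp, Function.comp_apply, Subgroup.coe_subtype]
    rw [sign_viaEmbeddingHom]
    exact Perm.mem_alternatingGroup.1 e.2

theorem altMap_injective {m n : ℕ} (ι : Fin m ↪ Fin n) : Function.Injective (altMap ι) :=
  fun _ _ h => Subtype.ext (Perm.viaEmbeddingHom_injective ι (congrArg Subtype.val h))

theorem coe_altMap {m n : ℕ} (ι : Fin m ↪ Fin n) (e : ↥(alternatingGroup (Fin m))) :
    (altMap ι e : Perm (Fin n)) = Perm.viaEmbedding (e : Perm (Fin m)) ι :=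
  Perm.viaEmbeddingHom_apply _ ι

theorem altMap_comm {a b n : ℕ} (ι : Fin a ↪ Fin n) (κ : Fin b ↪ Fin n)
    (hd : ∀ i j, ι i ≠ κ j) (e : ↥(alternatingGroup (Fin a))) (f : ↥(alternatingGroup (Fin b))) :
    altMap κ f * altMap ι e = altMap ι e * altMap κ f := by
  refine Subtype.ext ?_
  simp only [Subgroup.coe_mul, coe_altMap]
  refine Perm.Disjoint.commute fun z => ?_
  by_cases hz : z ∈ Set.range ι
  · obtain ⟨i, rfl⟩ := hz
    exact Or.inl (Perm.viaEmbedding_apply_of_notMem _ _ _ fun ⟨j, hj⟩ => hd i j hj.symm)
  · exact Or.inr (Perm.viaEmbedding_apply_of_notMem _ _ _ hz)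

/-- A frame from a `p`-element and five further letters. -/
noncomputable def frameOfEmb {p a m : ℕ} (ι : Fin a ↪ Fin m) (κ : Fin 5 ↪ Fin m)
    (hd : ∀ i j, ι i ≠ κ j) (hm : 4 ≤ m) (c : ↥(alternatingGroup (Fin a)))
    (hc : ∃ k, orderOf c = p ^ k) (hc1 : c ≠ 1) :
    Frame (p := p) (A := ↥(alternatingGroup (Fin m))) where
  xb := altMap ι c
  xb_pow := by
    obtain ⟨k, hk⟩ := hc
    exact ⟨k, by rw [orderOf_injective _ (altMap_injective ι), hk]⟩
  xb_not_central := by
    by_contra h
    push Not at h
    have hz : altMap ι c ∈ Subgroup.center ↥(alternatingGroup (Fin m)) :=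
      Subgroup.mem_center_iff.2 h
    rw [alternatingGroup.center_eq_bot (by simpa using hm), Subgroup.mem_bot] at hz
    exact hc1 (altMap_injective ι (hz.trans (map_one _).symm))
  J := (altMap κ).range
  J_perfect := by
    rw [MonoidHom.range_eq_map, ← Subgroup.map_commutator]
    congr 1
    exact commutator_alternatingGroup_eq_top (by simp)
  J_not_solvable h := by
    haveI := h
    exact Dickson.not_isSolvable_a5 (Group.isSolvable_of_isSolvable_injective
      (f := (MonoidHom.ofInjective (altMap_injective κ)).toMonoidHom) (MulEquiv.injective _))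
  J_comm := by
    rintro _ ⟨f, rfl⟩
    exact altMap_comm ι κ hd c f

theorem card_frame_J {m : ℕ} (κ : Fin 5 ↪ Fin m) : Nat.card ↥(altMap κ).range = 60 := by
  rw [Nat.card_congr (MonoidHom.ofInjective (altMap_injective κ)).toEquiv.symm]
  have h := two_mul_nat_card_alternatingGroup (α := Fin 5)
  rw [Nat.card_perm, Nat.card_fin] at h
  simp only [Nat.factorial] at h
  omega

/-- No cover of an alternating group of degree `p + 5` with solvable centralisers, `p` odd. -/
theorem Cover.false_odd {p : ℕ} [Fact p.Prime] (hp : 5 ≤ p) {K : Type u} [Group K] [Finite K]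
    (D : Cover p K ↥(alternatingGroup (Fin (p + 5)))) : False := by
  have hodd : Odd p := (Fact.out : p.Prime).odd_of_ne_two (by omega)
  set c : ↥(alternatingGroup (Fin p)) := ⟨finRotate p, by
    rw [Perm.mem_alternatingGroup, sign_finRotate]
    exact Even.neg_one_pow (Nat.Odd.sub_odd hodd odd_one)⟩
  have hcyc : (finRotate p).IsCycle := isCycle_finRotate_of_le (by omega)
  have hc : orderOf c = p := by
    rw [← Subgroup.orderOf_coe, hcyc.orderOf, support_finRotate_of_le (by omega)]
    simp
  have hc1 : c ≠ 1 := fun h => by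
    rw [h, orderOf_one] at hc
    omega
  let W := frameOfEmb (p := p) (Fin.castAddEmb 5) ⟨Fin.natAdd p, Fin.natAdd_injective 5 p⟩
    (fun i j h => by
      have := congrArg Fin.val h
      simp only [Fin.castAddEmb_apply, Function.Embedding.coeFn_mk, Fin.val_castAdd,
        Fin.val_natAdd] at this
      have := i.isLt
      omega) (by omega) c ⟨1, by rw [pow_one, hc]⟩ hc1
  by_cases h5 : p = 5
  · subst h5
    exact D.false_of_ker_central W (D.ker_le_Z fun V _ _ _ ρ h => Five.finrank_eq_zero (ρ := ρ) h)
  · refine D.false_of_coprime W fun h => ?_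
    rw [show Nat.card ↥W.J = 60 from card_frame_J _] at h
    have hle := Nat.le_of_dvd (by norm_num) h
    have hpr := (Fact.out : p.Prime)
    interval_cases p <;> first | omega | norm_num at h hpr

/-- No such cover of the alternating group of degree nine for `p = 2`. -/
theorem Cover.false_two [Fact (Nat.Prime 2)] {K : Type u} [Group K] [Finite K]
    (D : Cover 2 K ↥(alternatingGroup (Fin 9))) : False := by
  set c : ↥(alternatingGroup (Fin 4)) := ⟨swap 0 1 * swap 2 3, by
    rw [Perm.mem_alternatingGroup]; decide⟩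
  have hc1 : c ≠ 1 := fun h => by
    have := congrArg (fun e : ↥(alternatingGroup (Fin 4)) => (e : Perm (Fin 4)) 0) h
    simp [c] at this
    exact absurd this (by decide)
  have hc : orderOf c = 2 := orderOf_eq_prime (Subtype.ext (by
    show (swap (0 : Fin 4) 1 * swap 2 3) ^ 2 = 1
    decide)) hc1
  let W := frameOfEmb (p := 2) (Fin.castAddEmb 5) ⟨Fin.natAdd 4, Fin.natAdd_injective 5 4⟩
    (fun i j h => by
      have := congrArg Fin.val h
      simp only [Fin.castAddEmb_apply, Function.Embedding.coeFn_mk, Fin.val_castAdd,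
        Fin.val_natAdd] at this
      have := i.isLt
      omega) (by omega) c ⟨1, by rw [pow_one, hc]⟩ hc1
  exact D.false_of_ker_central W (D.ker_le_Z fun V _ _ _ ρ h => Two.finrank_eq_zero (ρ := ρ) h)

end Cfsg.Agent.AltCent
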